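import Cfsg.Agent.Mrg.ParSys.Par
import Cfsg.Agent.FixBN.Transport
import Cfsg.Agent.Octagon.Pkg
import Cfsg.Agent.Lib.FrattiniPGroup

section


/-!
# Transport of `HasKPair`, `HasKPairSep` along isomorphisms
-/

set_option autoImplicit false

namespace Cfsg.Agent.ParSys.Fam

open Cfsg.Agent.FixBN.Transport Subgroup

variable {F L : Type*} [Group F] [Group L] (e : F ≃* L) {p : ℕ} {Q : Cfsg.BNPair F} {UE : Subgroup F} {s t : F}

theorem mem_mapB {x : F} : e x ∈ (mapBN e Q).B ↔ x ∈ Q.B := by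
  show e x ∈ Q.B.map e.toMonoidHom ↔ _
  rw [Subgroup.mem_map_equiv, e.symm_apply_apply]

theorem mem_mapN {x : F} : e x ∈ (mapBN e Q).N ↔ x ∈ Q.N := by
  show e x ∈ Q.N.map e.toMonoidHom ↔ _
  rw [Subgroup.mem_map_equiv, e.symm_apply_apply]

theorem mem_mapU {x : F} : e x ∈ UE.map e.toMonoidHom ↔ x ∈ UE := by
  rw [Subgroup.mem_map_equiv, e.symm_apply_apply]

theorem fpfE_map (h : FpfE Q UE s) : FpfE (mapBN e Q) (UE.map e.toMonoidHom) (e s) := by
  obtain ⟨b, hb, h1⟩ := h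
  rw [mem_inf] at hb
  refine ⟨e b, mem_inf.2 ⟨(mem_mapB e).2 hb.1, (mem_mapN e).2 hb.2⟩, ?_⟩
  rintro _ ⟨u, hu, rfl⟩ h2
  have e1 : (e s)⁻¹ * (e b * e u * (e b)⁻¹ * (e u)⁻¹) * e s = e (s⁻¹ * (b * u * b⁻¹ * u⁻¹) * s) := by
    simp only [map_mul, map_inv]
  have e2 : (e s)⁻¹ * e u * e s = e (s⁻¹ * u * s) := by simp only [map_mul, map_inv]
  have h2' : (e s)⁻¹ * (e b * e u * (e b)⁻¹ * (e u)⁻¹) * e s ∈ (mapBN e Q).B := h2
  show (e s)⁻¹ * e u * e s ∈ (mapBN e Q).B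
  rw [e1, mem_mapB] at h2'
  rw [e2, mem_mapB]
  exact h1 u hu h2'

theorem sepE_map (h : SepE Q UE s t) : SepE (mapBN e Q) (UE.map e.toMonoidHom) (e s) (e t) := by
  obtain ⟨b, hb, h1, h2⟩ := h
  rw [mem_inf] at hb
  refine ⟨e b, mem_inf.2 ⟨(mem_mapB e).2 hb.1, (mem_mapN e).2 hb.2⟩, ?_, ?_⟩
  · rintro _ ⟨u, hu, rfl⟩
    have e1 : (e s)⁻¹ * (e b * e u * (e b)⁻¹ * (e u)⁻¹) * e s = e (s⁻¹ * (b * u * b⁻¹ * u⁻¹) * s) := by
      simp only [map_mul, map_inv]
    show (e s)⁻¹ * (e b * e u * (e b)⁻¹ * (e u)⁻¹) * e s ∈ (mapBN e Q).B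
    rw [e1, mem_mapB]
    exact h1 u hu
  · rintro _ ⟨u, hu, rfl⟩ h3
    have e1 : (e t)⁻¹ * (e b * e u * (e b)⁻¹ * (e u)⁻¹) * e t = e (t⁻¹ * (b * u * b⁻¹ * u⁻¹) * t) := by
      simp only [map_mul, map_inv]
    have e2 : (e t)⁻¹ * e u * e t = e (t⁻¹ * u * t) := by simp only [map_mul, map_inv]
    have h3' : (e t)⁻¹ * (e b * e u * (e b)⁻¹ * (e u)⁻¹) * e t ∈ (mapBN e Q).B := h3
    show (e t)⁻¹ * e u * e t ∈ (mapBN e Q).B
    rw [e1, mem_mapB] at h3'
    rw [e2, mem_mapB]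
    exact h2 u hu h3'

theorem fOne_map (h : FOne Q UE s t) : FOne (mapBN e Q) (UE.map e.toMonoidHom) (e s) (e t) := by
  intro T hT hcov
  rw [Subgroup.map_le_iff_le_comap]
  refine h (T.comap e.toMonoidHom) ?_ ?_
  · intro x hx
    have h1 : e x ∈ T := hx
    exact (mem_mapU e).1 (hT h1)
  · intro u hu
    obtain ⟨x, hx, h1, h2⟩ := hcov (e u) ⟨u, hu, rfl⟩
    obtain ⟨x, rfl⟩ := e.surjective x
    refine ⟨x, hx, ?_, ?_⟩
    · rw [← mem_mapB e (Q := Q)]
      simpa only [map_mul, map_inv] using h1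
    · rw [← mem_mapB e (Q := Q)]
      simpa only [map_mul, map_inv] using h2

theorem map_Rone (s : F) : Rone (UE.map e.toMonoidHom) (e s) = (Rone UE s).map e.toMonoidHom := by
  unfold Rone
  rw [Subgroup.map_sup, Subgroup.map_map, Subgroup.map_map]
  congr 2
  ext x
  show e s * e x * (e s)⁻¹ = e (s * x * s⁻¹)
  simp only [map_mul, map_inv]

theorem mem_map_Rone {s x : F} : e x ∈ Rone (UE.map e.toMonoidHom) (e s) ↔ x ∈ Rone UE s := by
  rw [map_Rone, Subgroup.mem_map_equiv, e.symm_apply_apply]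

theorem kPair_map (h : KPair p Q UE s t) : KPair p (mapBN e Q) (UE.map e.toMonoidHom) (e s) (e t) where
  split := split e Q h.split
  S := by
    show e '' Q.S = _
    rw [h.S, Set.image_pair]
  ne := fun h1 => h.ne (e.injective h1)
  irr := by
    intro h1
    apply h.irr
    rw [← mem_mapB e (Q := Q)]
    simpa only [map_mul, map_inv] using h1
  one := fOne_map e h.one
  gen := by
    have h1 := Subgroup.map_mono (f := e.toMonoidHom) h.gen
    rw [Subgroup.map_sup, Subgroup.map_inf _ _ _ e.injective, Subgroup.map_inf _ _ _ e.injective, ← map_Rone,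
      ← map_Rone] at h1
    exact h1
  fpfs := fpfE_map e h.fpfs
  fpft := fpfE_map e h.fpft
  comm := by
    rintro _ ⟨x, hx, rfl⟩ _ ⟨y, hy, rfl⟩
    exact ⟨x * y * x⁻¹ * y⁻¹, h.comm x hx y hy, by
      show e (x * y * x⁻¹ * y⁻¹) = e x * e y * (e x)⁻¹ * (e y)⁻¹
      simp only [map_mul, map_inv]⟩

theorem kCyc_map (h : ∃ c ∈ Rone UE s, c ∈ Q.B ∧ ∀ x ∈ Rone UE s, x ∈ Q.B → ∃ k : ℤ, x * c ^ k ∈ UE) :
    ∃ c ∈ Rone (UE.map e.toMonoidHom) (e s), c ∈ (mapBN e Q).B ∧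
      ∀ x ∈ Rone (UE.map e.toMonoidHom) (e s), x ∈ (mapBN e Q).B → ∃ k : ℤ, x * c ^ k ∈ UE.map e.toMonoidHom := by
  obtain ⟨c, hc, hcB, h1⟩ := h
  refine ⟨e c, (mem_map_Rone e).2 hc, (mem_mapB e).2 hcB, fun x hx hxB => ?_⟩
  obtain ⟨x, rfl⟩ := e.surjective x
  obtain ⟨k, hk⟩ := h1 x ((mem_map_Rone e).1 hx) ((mem_mapB e).1 hxB)
  exact ⟨k, by rw [← map_zpow, ← map_mul]; exact (mem_mapU e).2 hk⟩

theorem kInv_map (h : ∀ x ∈ Rone UE s, x ∈ Q.B → x ∈ Q.N → s * x * s⁻¹ * x = 1) :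
    ∀ x ∈ Rone (UE.map e.toMonoidHom) (e s), x ∈ (mapBN e Q).B → x ∈ (mapBN e Q).N → e s * x * (e s)⁻¹ * x = 1 := by
  intro x hx hxB hxN
  obtain ⟨x, rfl⟩ := e.surjective x
  rw [← map_inv, ← map_mul, ← map_mul, ← map_mul,
    h x ((mem_map_Rone e).1 hx) ((mem_mapB e).1 hxB) ((mem_mapN e).1 hxN), map_one]

theorem kTor_map (h : KTor Q UE s t) : KTor (mapBN e Q) (UE.map e.toMonoidHom) (e s) (e t) where
  cycs := kCyc_map e h.cycs
  cyct := kCyc_map e h.cyct
  inv := h.inv.imp (kInv_map e) (kInv_map e)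

/-- **Transport.** -/
theorem hasKPair_congr (e : F ≃* L) (h : HasKPair p F) : HasKPair p L := by
  obtain ⟨Q, UE, s, t, h1, h2⟩ := h
  exact ⟨_, _, _, _, kPair_map e h1, kTor_map e h2⟩

/-- **Transport.** -/
theorem hasKPairSep_congr (e : F ≃* L) (h : HasKPairSep p F) : HasKPairSep p L := by
  obtain ⟨Q, UE, s, t, h1, h2, h3⟩ := h
  exact ⟨_, _, _, _, kPair_map e h1, kTor_map e h2, h3.imp (sepE_map e) (sepE_map e)⟩

theorem HasKPairSep.hasKPair (h : HasKPairSep p F) : HasKPair p F := by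
  obtain ⟨Q, UE, s, t, h1, h2, -⟩ := h
  exact ⟨Q, UE, s, t, h1, h2⟩

end Cfsg.Agent.ParSys.Fam

end

section


/-!
# The relations of the Moufang octagon: the middle root groups lie in `U'`
-/

set_option autoImplicit false

namespace Cfsg.Agent.ParSys.Fam.OctPerf

open Cfsg.Agent.Octagon.Pkg

/-- the Frattini argument -/
theorem le_of_sup {Y : Type*} [Group Y] [Finite Y] {p : ℕ} [Fact p.Prime] {U T : Subgroup Y}
    (hU : IsPGroup p U) (hT : T ≤ U) (h : U ≤ T ⊔ ⁅U, U⁆) : U ≤ T := by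
  have h1 : T.subgroupOf U ⊔ frattini U = ⊤ := by
    rw [eq_top_iff]
    have h2 : T.subgroupOf U ⊔ commutator U = ⊤ := by
      apply Subgroup.map_injective U.subtype_injective
      rw [Subgroup.map_sup, Subgroup.map_subtype_commutator, Subgroup.subgroupOf_map_subtype,
        ← MonoidHom.range_eq_map, Subgroup.range_subtype, inf_eq_left.2 hT]
      exact le_antisymm (sup_le hT (Subgroup.commutator_le_self U)) h
    rw [← h2]
    exact sup_le_sup_left (Lib.FrattiniPGroup.commutator_le_frattini hU) _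
  have h2 := frattini_nongenerating h1
  rwa [Subgroup.subgroupOf_eq_top] at h2

variable {F : Type*} [Field F] {σ : F →+* F} {H : Type*} [Group H] {x1 x3 x5 x7 : F → H} {x2 x4 x6 x8 : F → F → H}
  {A : Type*} [CommGroup A]

theorem cancel1 {a b c : A} (h : a * b = b * a * c) : c = 1 := by
  rw [mul_comm a b] at h
  exact (mul_eq_left.1 h.symm)

theorem ab_all (R : OctRel σ x1 x3 x5 x7 x2 x4 x6 x8) (hσ : Function.Surjective σ) {c : F} (hc0 : c ≠ 0)
    (hc1 : c ≠ 1) (π : H →* A) :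
    (∀ p u, π (x2 p u) = 1) ∧ (∀ t, π (x3 t) = 1) ∧ (∀ p u, π (x4 p u) = 1) ∧ (∀ t, π (x5 t) = 1) ∧
      (∀ p u, π (x6 p u) = 1) ∧ (∀ t, π (x7 t) = 1) := by
  have h3 : ∀ t, π (x3 t) = 1 := fun t => by
    have h := congrArg π (R.r24 t 0 1 0)
    simp only [map_mul, mul_one] at h
    exact cancel1 h
  have h5 : ∀ t, π (x5 t) = 1 := fun t => by
    have h := congrArg π (R.r46 t 0 1 0)
    simp only [map_mul, mul_one] at h
    exact cancel1 h
  have h7 : ∀ t, π (x7 t) = 1 := fun t => by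
    have h := congrArg π (R.r68 t 0 1 0)
    simp only [map_mul, mul_one] at h
    exact cancel1 h
  have h20 : ∀ t, π (x2 0 t) = 1 := fun t => by
    have h := congrArg π (R.r14 t 1 0)
    simp only [map_mul, mul_one] at h
    exact cancel1 h
  have h40 : ∀ t, π (x4 0 t) = 1 := fun t => by
    have h := congrArg π (R.r25 t 0 1)
    simp only [map_mul, mul_one] at h
    exact cancel1 h
  have h60 : ∀ t, π (x6 0 t) = 1 := fun t => by
    have h := congrArg π (R.r47 t 0 1)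
    simp only [map_mul, mul_one] at h
    exact cancel1 h
  have s2 : ∀ p u, π (x2 p u) = π (x2 p 0) := fun p u => by
    have h := congrArg π (R.m2 p 0 0 u)
    simp only [map_mul, map_zero, mul_zero, add_zero, zero_add, h20, mul_one] at h
    exact h.symm
  have s4 : ∀ p u, π (x4 p u) = π (x4 p 0) := fun p u => by
    have h := congrArg π (R.m4 p 0 0 u)
    simp only [map_mul, map_zero, mul_zero, add_zero, zero_add, h40, mul_one] at h
    exact h.symm
  have s6 : ∀ p u, π (x6 p u) = π (x6 p 0) := fun p u => by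
    have h := congrArg π (R.m6 p 0 0 u)
    simp only [map_mul, map_zero, mul_zero, add_zero, zero_add, h60, mul_one] at h
    exact h.symm
  have a4 : ∀ p q, π (x4 (p + q) 0) = π (x4 p 0) * π (x4 q 0) := fun p q => by
    have h := congrArg π (R.m4 p 0 q 0)
    rw [map_mul, s4 (p + q) (0 + 0 + p * σ q)] at h
    exact h.symm
  have key : ∀ t q v, π (x2 (t * q) 0) * π (x4 (σ t * q * σ q + σ t * v) 0) * π (x6 (t * v) 0) = 1 := by
    intro t q v
    have h := congrArg π (R.r18 t q v)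
    simp only [map_mul, h3, h5, h7, mul_one] at h
    rw [s2, s4, s6] at h
    have h' := cancel1 (c := π (x2 (t * q) 0) * π (x4 (σ t * q * σ q + σ t * v) 0) * π (x6 (t * v) 0)) (by
      rw [h]
      simp only [mul_assoc])
    exact h'
  have k1 : ∀ t q, π (x2 (t * q) 0) * π (x4 (σ t * q * σ q) 0) = 1 := fun t q => by
    have h := key t q 0
    simp only [mul_zero, add_zero, h60, mul_one] at h
    exact h
  have k2 : ∀ t v, π (x4 (σ t * v) 0) * π (x6 (t * v) 0) = 1 := fun t v => by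
    have h := key t 0 v
    simp only [mul_zero, zero_mul, zero_add, h20, one_mul] at h
    exact h
  have b4 : ∀ s q : F, q ≠ 0 → π (x2 s 0) * π (x4 (σ s * q) 0) = 1 := fun s q hq => by
    have h := k1 (s / q) q
    have e1 : s / q * q = s := div_mul_cancel₀ s hq
    have e2 : σ (s / q) * q * σ q = σ s * q := by
      have hσq : σ q ≠ 0 := (map_ne_zero σ).2 hq
      rw [map_div₀]
      field_simp
    rwa [e1, e2] at h
  have h4 : ∀ z, π (x4 z 0) = 1 := fun z => by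
    have hc : 1 - c ≠ 0 := sub_ne_zero.2 hc1.symm
    obtain ⟨s, hs⟩ := hσ (z / (1 - c))
    have e1 := b4 s 1 one_ne_zero
    have e2 := b4 s c hc0
    have e3 : π (x4 (σ s * 1) 0) = π (x4 (σ s * c) 0) := mul_left_cancel (e1.trans e2.symm)
    have e4 := a4 z (σ s * c)
    have e5 : z + σ s * c = σ s * 1 := by
      rw [hs]
      field_simp
      ring
    rw [e5, e3] at e4
    exact mul_eq_right.1 e4.symm
  refine ⟨fun p u => ?_, h3, fun p u => ?_, h5, fun p u => ?_, h7⟩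
  · rw [s2]
    have h := b4 p 1 one_ne_zero
    rwa [h4, mul_one] at h
  · rw [s4, h4]
  · rw [s6]
    have h := k2 1 p
    rw [h4, one_mul, one_mul] at h
    exact h

end Cfsg.Agent.ParSys.Fam.OctPerf

end
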