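import Cfsg.Agent.Mrg.ParSys.Par
import Cfsg.Agent.Mrg.ParSys.Fam.Transport
import Cfsg.Agent.Schreier.TwFFour
import Cfsg.Agent.Octagon.KRoot
import Cfsg.Agent.ChevalleyStructure.TwF4.BNIrred
import Cfsg.Agent.ChevalleyStructure.TwF4.OrderCls
import Cfsg.Agent.S1072
import Cfsg.Agent.KFacts.RgdChevCoord
import Cfsg.Agent.Mrg.ParSys.Fam.Rgd
import Cfsg.Agent.S1055
import Cfsg.Agent.Nodes.RGDFoldSL
import Cfsg.Agent.Nodes.FreeTorus
import Cfsg.Agent.Nodes.OppDec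
import Cfsg.Agent.KFacts.RgdDiag

section


/-!
# THEOREM PAR: the facts on the rank two group `²F₄(q)`, `q = 2 ^ (2 m + 1) ≥ 8`
-/

set_option autoImplicit false
set_option linter.unusedSectionVars false
set_option linter.style.haveILetI false

namespace Cfsg.Agent.ParSys.Fam.TwoFFour

open Cfsg.Lie
open Cfsg.Agent.ChevalleyStructure.TwF4.Tables
open Cfsg.Agent.ChevalleyStructure.TwF4.Rel
open Cfsg.Agent.ChevalleyStructure.TwF4.Groups Cfsg.Agent.ChevalleyStructure.TwF4.RankOne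
open Cfsg.Agent.ChevalleyStructure.TwF4.Twisted Cfsg.Agent.ChevalleyStructure.TwF4.TwistedFix
open Cfsg.Agent.ChevalleyStructure.TwF4.BN
open Cfsg.Agent.ChevalleyStructure.TwF4.Torus (T chi T_conj_X T_inr chi_def)
open Cfsg.Agent.ChevalleyStructure.F4NTab (ca)
open Cfsg.Agent.ChevalleyStructure.TwF4.TwGen (tc tc_mul chi_tc_24 chi_tc_25 chi_tc_33 chi_tc_27 chi28 chi30 pow_all
  n1_eq n2_eq n1_conj_T n2_conj_T)
open Cfsg.Agent.ChevalleyStructure.TwF4.TorusFix (mem_iff pow_unit T_rt rt)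
open Cfsg.Agent.ChevalleyStructure.TwF4.Fix (Fix)
open Cfsg.Agent.ChevalleyStructure.TwF4.OrderCls (X_inj)
open Cfsg.Agent.Schreier.TwFFour
open Cfsg.Agent.Octagon.KSys Cfsg.Agent.Octagon.KPar Cfsg.Agent.Octagon.KRoot Cfsg.Agent.Octagon.Pkg

section Abs

variable {G : Type*} [Group G]

theorem le_Rone {U : Subgroup G} {s : G} : U ≤ Rone U s := le_sup_left

theorem conj_mem_Rone {U : Subgroup G} {s u : G} (hu : u ∈ U) : s * u * s⁻¹ ∈ Rone U s :=
  Subgroup.mem_sup_right (Subgroup.mem_map.2 ⟨u, hu, rfl⟩)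

theorem s_mem_Rone {U : Subgroup G} {s a b c : G} (ha : a ∈ U) (hb : b ∈ U) (hc : c ∈ U)
    (hs : s = a * (s * b * s⁻¹) * c) : s ∈ Rone U s := by
  have h : a * (s * b * s⁻¹) * c ∈ Rone U s := mul_mem (mul_mem (le_Rone ha) (conj_mem_Rone hb)) (le_Rone hc)
  rwa [← hs] at h

/-- the torus element `[h, s]` lies in the rank one group -/
theorem comm_mem_Rone {U : Subgroup G} {s a b c h h' : G} (hU : ∀ u ∈ U, h * u * h⁻¹ ∈ U)
    (hU' : ∀ u ∈ U, h' * u * h'⁻¹ ∈ U) (e : h * s = s * h') (ha : a ∈ U) (hb : b ∈ U) (hc : c ∈ U)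
    (hs : s = a * (s * b * s⁻¹) * c) : h * s * h⁻¹ * s⁻¹ ∈ Rone U s := by
  have h1 := s_mem_Rone ha hb hc hs
  have h2 : h * s * h⁻¹ = (h * a * h⁻¹) * (s * (h' * b * h'⁻¹) * s⁻¹) * (h * c * h⁻¹) := by
    have e1 : s * (h' * b * h'⁻¹) * s⁻¹ = (s * h') * b * (s * h')⁻¹ := by group
    rw [e1, ← e]
    nth_rewrite 1 [hs]
    group
  rw [h2]
  exact mul_mem (mul_mem (mul_mem (le_Rone (hU a ha)) (conj_mem_Rone (hU' b hb))) (le_Rone (hU c hc)))
    (inv_mem h1)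

end Abs

section Ambient

variable {K : Type*} [Field K] [Finite K] [CharP K 2]

/-! ### characters -/

theorem tab44 : ca 0 44 = 1 ∧ ca 1 44 = 0 ∧ ca 2 44 = 0 ∧ ca 3 44 = 0 := by decide
theorem tab45 : ca 0 45 = 0 ∧ ca 1 45 = 2 ∧ ca 2 45 = -1 ∧ ca 3 45 = 0 := by decide

omit [Finite K] [CharP K 2] in
theorem chi_tc_44 (e : ℕ) (s t : Kˣ) : chi (tc e s t) 44 = t ^ e := by
  rw [chi_def, tab44.1, tab44.2.1, tab44.2.2.1, tab44.2.2.2]
  simp [tc]

omit [Finite K] [CharP K 2] in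
theorem chi_tc_45 (e : ℕ) (s t : Kˣ) : chi (tc e s t) 45 = (s ^ e) ^ 2 * s⁻¹ := by
  rw [chi_def, tab45.1, tab45.2.1, tab45.2.2.1, tab45.2.2.2]
  simp [tc]

/-! ### the root group 44, and the root group 45 modulo 46, 47 -/

/-- the roots 46, 47 -/
def A2 (r : ℕ) : Bool := decide (r = 46) || decide (r = 47)

/-- the positive roots other than 46, 47 -/
def R2 (r : ℕ) : Bool := posB r && !(A2 r)

theorem A2_pos : ∀ r < 48, A2 r = true → 24 ≤ r := by decide +kernel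
theorem R2_pos : ∀ r < 48, R2 r = true → 24 ≤ r := by decide +kernel
theorem A2_or_R2 : ∀ r < 48, posB r = true → A2 r = true ∨ R2 r = true := by decide +kernel

theorem chk_A2 : chkNorm R2 A2 = true := by decide +kernel

theorem chk44 : ((List.range 24).all fun r => decide (24 + r = 44) || (cm (24 + r) 44).isEmpty) = true := by
  decide +kernel

theorem chk45 : ((List.range 24).all fun r => decide (24 + r = 45) || (cm (24 + r) 45).all fun e =>
    decide (e.1 < 48) && A2 e.1) = true := by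
  decide +kernel

theorem cm25 : cm 25 46 = [] ∧ cm 25 47 = [] ∧ cm 25 45 = [(46, 1, 1)] := by decide +kernel

theorem U_norm_A2 : GA K posB ≤ Subgroup.normalizer (GA K A2 : Set (GL chevF4.Idx K)) := by
  rw [GA_le_iff]
  intro r hr hp t
  rcases A2_or_R2 r hr hp with h | h
  · exact Subgroup.le_normalizer (X_mem_GA hr h t)
  · exact le_normalizer_of_chk chk_A2 R2_pos A2_pos (X_mem_GA hr h t)

/-- The elements which normalise `GA {46, 47}` and centralise the root group 45 modulo it. -/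
def PP (K : Type*) [Field K] [CharP K 2] : Subgroup (GL chevF4.Idx K) where
  carrier := {g | g ∈ Subgroup.normalizer (GA K A2 : Set (GL chevF4.Idx K)) ∧
    g * X 45 1 * g⁻¹ * (X 45 1)⁻¹ ∈ GA K A2}
  one_mem' := ⟨one_mem _, by
    have h : (1 : GL chevF4.Idx K) * X 45 1 * 1⁻¹ * (X 45 1)⁻¹ = 1 := by group
    rw [h]; exact one_mem _⟩
  mul_mem' := by
    rintro g h ⟨hg, hg1⟩ ⟨hh, hh1⟩
    refine ⟨mul_mem hg hh, ?_⟩
    have e1 : g * h * X 45 1 * (g * h)⁻¹ * (X 45 1)⁻¹ =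
        (g * (h * X 45 1 * h⁻¹ * (X 45 1)⁻¹) * g⁻¹) * (g * X 45 1 * g⁻¹ * (X 45 1)⁻¹) := by group
    rw [e1]
    exact mul_mem ((Subgroup.mem_normalizer_iff.1 hg _).1 hh1) hg1
  inv_mem' := by
    rintro g ⟨hg, hg1⟩
    refine ⟨inv_mem hg, ?_⟩
    have e1 : g⁻¹ * X 45 1 * g⁻¹⁻¹ * (X 45 1)⁻¹ = g⁻¹ * (g * X 45 1 * g⁻¹ * (X 45 1)⁻¹)⁻¹ * g⁻¹⁻¹ := by group
    rw [e1]
    exact (Subgroup.mem_normalizer_iff.1 (inv_mem hg) _).1 (inv_mem hg1)

theorem mem_PP {g : GL chevF4.Idx K} : g ∈ PP K ↔ g ∈ Subgroup.normalizer (GA K A2 : Set (GL chevF4.Idx K)) ∧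
    g * X 45 1 * g⁻¹ * (X 45 1)⁻¹ ∈ GA K A2 := Iff.rfl

theorem U_le_PP : GA K posB ≤ PP K := by
  rw [GA_le_iff]
  intro r hr hp t
  have hr24 : 24 ≤ r := of_decide_eq_true hp
  refine mem_PP.2 ⟨U_norm_A2 (X_mem_GA hr hp t), ?_⟩
  by_cases h45 : r = 45
  · subst h45
    have h : (X 45 t : GL chevF4.Idx K) * X 45 1 * (X 45 t)⁻¹ * (X 45 1)⁻¹ = 1 := by
      rw [X_add, add_comm, ← X_add]
      group
    rw [h]; exact one_mem _
  · have h := chk45
    rw [List.all_eq_true] at h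
    have h1 := h (r - 24) (List.mem_range.2 (by omega))
    have e1 : 24 + (r - 24) = r := by omega
    rw [e1, Bool.or_eq_true] at h1
    have h2 := h1.resolve_left (by simpa using h45)
    rw [comm_rel r 45 hr24 hr (by norm_num) (by norm_num) h45, mul_inv_cancel_right]
    rw [← (Subgroup.mem_normalizer_iff.1 (U_norm_A2 (K := K)
      (X_mem_GA (by norm_num : 45 < 48) (by decide : posB 45 = true) 1)) _)]
    refine W_mem_GA _ ?_
    intro p hp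
    unfold wordK at hp
    rw [List.mem_map] at hp
    obtain ⟨e, he, rfl⟩ := hp
    rw [List.all_eq_true] at h2
    have h4 := h2 e he
    simpa using h4

theorem n1_mem_PP : n1 K ∈ PP K := by
  refine mem_PP.2 ⟨?_, ?_⟩
  · rw [Subgroup.mem_normalizer_iff]
    have key : ∀ x ∈ GA K A2, n1 K * x * (n1 K)⁻¹ ∈ GA K A2 := by
      refine Act_conj Act_n1 ?_
      decide +kernel
    intro x
    refine ⟨key x, fun h => ?_⟩
    have h1 := key _ h
    have h2 : n1 K * (n1 K * x * (n1 K)⁻¹) * (n1 K)⁻¹ = (n1 K * n1 K) * x * (n1 K * n1 K)⁻¹ := by group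
    rw [h2, n1_mul_self] at h1
    simpa using h1
  · have h : n1 K * X 45 1 * (n1 K)⁻¹ = X (w1 45) 1 := Act_n1.2 45 (by norm_num) 1
    have e : w1 45 = 45 := by decide
    rw [h, e, mul_inv_cancel]
    exact one_mem _

theorem X45_mem {c : K} (h : X 45 c ∈ GA K A2) : c = 0 := by
  have h1 : GA K A2 ≤ Subgroup.centralizer {(X 25 1 : GL chevF4.Idx K)} := by
    rw [GA_le_iff]
    intro r hr hA t
    rw [Subgroup.mem_centralizer_singleton_iff]
    have hr' : r = 46 ∨ r = 47 := by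
      unfold A2 at hA
      simpa using hA
    have h2 : X 25 1 * X r t = X r t * W (wordK 1 t (cm 25 r)) * X 25 1 :=
      comm_rel 25 r (by norm_num) (by norm_num) (by omega) hr (by omega) 1 t
    rcases hr' with rfl | rfl
    · rw [cm25.1] at h2
      have h3 : W (wordK (1 : K) t []) = 1 := rfl
      rw [h3, mul_one] at h2
      exact h2.symm
    · rw [cm25.2.1] at h2
      have h3 : W (wordK (1 : K) t []) = 1 := rfl
      rw [h3, mul_one] at h2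
      exact h2.symm
  have h2 := Subgroup.mem_centralizer_singleton_iff.1 (h1 h)
  have h3 : X 25 1 * X 45 c = X 45 c * W (wordK 1 c (cm 25 45)) * X 25 1 :=
    comm_rel 25 45 (by norm_num) (by norm_num) (by norm_num) (by norm_num) (by norm_num) 1 c
  rw [cm25.2.2] at h3
  have h4 : W (wordK (1 : K) c [(46, 1, 1)]) = X 46 c := by
    simp [wordK, W_cons]
  rw [h4, ← h2] at h3
  have h5 : X 46 c = (X 46 0 : GL chevF4.Idx K) := by
    rw [X_zero]
    have h6 := mul_right_cancel h3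
    have h7 : X 45 c * 1 = X 45 c * X 46 c := by rw [mul_one]; exact h6
    exact (mul_left_cancel h7).symm
  exact X_inj ⟨by norm_num, by norm_num⟩ h5

theorem U_le_C44 : GA K posB ≤ Subgroup.centralizer {(X 44 1 : GL chevF4.Idx K)} := by
  rw [GA_le_iff]
  intro r hr hp t
  have hr24 : 24 ≤ r := of_decide_eq_true hp
  rw [Subgroup.mem_centralizer_singleton_iff]
  by_cases h44 : r = 44
  · subst h44
    rw [X_add, add_comm, ← X_add]
  · have h := chk44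
    rw [List.all_eq_true] at h
    have h1 := h (r - 24) (List.mem_range.2 (by omega))
    have e1 : 24 + (r - 24) = r := by omega
    rw [e1, Bool.or_eq_true] at h1
    have h2 := h1.resolve_left (by simpa using h44)
    rw [List.isEmpty_iff] at h2
    have h3 := comm_rel r 44 hr24 hr (by norm_num) (by norm_num) h44 t (1 : K)
    rw [h2] at h3
    have h4 : W (wordK t (1 : K) []) = 1 := rfl
    rw [h4, mul_one] at h3
    exact h3

theorem n2_mem_C44 : n2 K ∈ Subgroup.centralizer {(X 44 1 : GL chevF4.Idx K)} := by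
  rw [Subgroup.mem_centralizer_singleton_iff]
  have h : n2 K * X 44 1 * (n2 K)⁻¹ = X (w2 44) 1 := Act_n2.2 44 (by norm_num) 1
  have e : w2 44 = 44 := by decide
  rw [e, mul_inv_eq_iff_eq_mul] at h
  exact h

end Ambient

/-! ### the twisted group -/

section TwistedGroup

variable {K : Type*} [Field K] [Fintype K] [CharP K 2] {φ : K →+* K} {e : ℕ}

/-- the torus elements -/
def tt (hdec : Dec K e) (s t : Kˣ) : ↥(twistedF4 K e) := ⟨T (tc e s t), hdec.2 s t⟩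

theorem tt_mul (hdec : Dec K e) (s t s' t' : Kˣ) : tt hdec s t * tt hdec s' t' = tt hdec (s * s') (t * t') :=
  Subtype.ext (by
    show (T (tc e s t) : GL chevF4.Idx K) * T (tc e s' t') = T (tc e (s * s') (t * t'))
    rw [← map_mul, tc_mul])

theorem tt_one (hdec : Dec K e) : tt hdec (1 : Kˣ) 1 = 1 := by
  have h := tt_mul hdec (1 : Kˣ) 1 1 1
  rw [mul_one] at h
  exact mul_eq_left.1 h

theorem tt_inv (hdec : Dec K e) (s t : Kˣ) : (tt hdec s t)⁻¹ = tt hdec s⁻¹ t⁻¹ := by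
  rw [inv_eq_iff_mul_eq_one, tt_mul, mul_inv_cancel, mul_inv_cancel, tt_one]

theorem tt_zpow1 (hdec : Dec K e) (g : Kˣ) (k : ℤ) : (tt hdec 1 g) ^ k = tt hdec 1 (g ^ k) := by
  have h := map_zpow (MonoidHom.mk' (fun t => tt hdec 1 t) fun a b => by rw [tt_mul, mul_one]) g k
  exact h.symm

theorem tt_zpow2 (hdec : Dec K e) (g : Kˣ) (k : ℤ) : (tt hdec g 1) ^ k = tt hdec (g ^ k) 1 := by
  have h := map_zpow (MonoidHom.mk' (fun t => tt hdec t 1) fun a b => by rw [tt_mul, mul_one]) g k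
  exact h.symm

/-- `3 - 4 e` is invertible modulo `q - 1` -/
theorem eq_one_of_exp (hφ : Rln φ e) {c : Kˣ} (h : (((c ^ 2) ^ e) ^ 2)⁻¹ * (c ^ 2) ^ 2 * c⁻¹ = 1) : c = 1 := by
  have h0 : c ^ 3 = c ^ (4 * e) := by
    rw [mul_inv_eq_one, inv_mul_eq_iff_eq_mul] at h
    rw [← pow_mul, ← pow_mul, ← pow_mul] at h
    have h1 : c ^ 3 * c = c ^ (4 * e) * c := by
      rw [← pow_succ]
      rw [show 2 * (e * 2) = 4 * e by ring] at h
      exact h
    exact mul_right_cancel h1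
  have h1 : c ^ (3 * e) = c ^ 2 := by
    rw [pow_mul, h0, ← pow_mul, show 4 * e * e = 2 * e * e * 2 by ring, pow_mul, units_pow hφ]
  have h2 : c ^ 9 = c ^ 8 := by
    rw [show 9 = 3 * 3 by norm_num, pow_mul, h0, ← pow_mul, show 4 * e * 3 = 3 * e * 4 by ring, pow_mul, h1,
      ← pow_mul]
  rw [pow_succ] at h2
  exact mul_eq_left.1 h2

theorem m1_sq : m1 K e * m1 K e = 1 := Subtype.ext n1_mul_self
theorem m2_sq (hφ : Rln φ e) : m2 hφ * m2 hφ = 1 := Subtype.ext n2_mul_self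
theorem m1_inv : (m1 K e)⁻¹ = m1 K e := inv_eq_of_mul_eq_one_left m1_sq
theorem m2_inv (hφ : Rln φ e) : (m2 hφ)⁻¹ = m2 hφ := inv_eq_of_mul_eq_one_left (m2_sq hφ)

theorem m1_tt (hdec : Dec K e) (t : Kˣ) : m1 K e * tt hdec 1 t * (m1 K e)⁻¹ = tt hdec 1 t⁻¹ :=
  Subtype.ext (by
    show n1 K * T (tc e 1 t) * (n1 K)⁻¹ = T (tc e 1 t⁻¹)
    have h := n1_conj_T (K := K) (t ^ e) (1 ^ e) 1 t
    have h1 : tc e 1 t = ![t ^ e, 1 ^ e, 1, t] := rfl
    rw [h1, h]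
    congr 1
    simp [tc])

theorem m2_tt (hφ : Rln φ e) (hdec : Dec K e) (s : Kˣ) : m2 hφ * tt hdec s 1 * (m2 hφ)⁻¹ = tt hdec s⁻¹ 1 :=
  Subtype.ext (by
    show n2 K * T (tc e s 1) * (n2 K)⁻¹ = T (tc e s⁻¹ 1)
    have h := n2_conj_T (K := K) (1 ^ e) (s ^ e) s 1
    have h1 : tc e s 1 = ![1 ^ e, s ^ e, s, 1] := rfl
    rw [h1, h]
    congr 1
    simp [tc])

theorem tt_B0 (hdec : Dec K e) (s t : Kˣ) : tt hdec s t ∈ B0 K e := T_mem_borel _

theorem tt_conj_U0 (hdec : Dec K e) (s t : Kˣ) : ∀ u ∈ U0 K e, tt hdec s t * u * (tt hdec s t)⁻¹ ∈ U0 K e :=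
  fun _ hu => conj_U0 (tt_B0 hdec s t) hu

/-- square roots -/
theorem exists_sq (hφ : Rln φ e) (x : Kˣ) : ∃ y : Kˣ, y * y = x := by
  refine ⟨x ^ (e * e), ?_⟩
  rw [← pow_add]
  conv_rhs => rw [← units_pow (K := K) hφ x]
  congr 1
  ring

/-! ### the tori of the rank one groups -/

theorem m1_word : (m1 K e) = ⟨xa e 1, xa_mem 1⟩ * (m1 K e * ⟨xa e 1, xa_mem 1⟩ * (m1 K e)⁻¹) * ⟨xa e 1, xa_mem 1⟩ :=
  Subtype.ext (by
    show n1 K = xa e 1 * (n1 K * xa e 1 * (n1 K)⁻¹) * xa e 1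
    have h1 : n1 K * xa e 1 * (n1 K)⁻¹ = X 14 1 * X 23 1 := by
      rw [← W_pair_neg]
      simp [f4PairWord, W_cons, f4m1, f4m4]
    rw [h1, n1_eq]
    simp [xa])

theorem m2_word (hφ : Rln φ e) : (m2 hφ) = ⟨xb e 0 1, xb_mem 0 1⟩ *
    (m2 hφ * ⟨xb e 1 1, xb_mem 1 1⟩ * (m2 hφ)⁻¹) * ⟨xb e 1 0, xb_mem 1 0⟩ :=
  Subtype.ext (by
    show n2 K = xb e 0 1 * (n2 K * xb e 1 1 * (n2 K)⁻¹) * xb e 1 0
    have he := hφ.pos
    have h1 : n2 K * xb e 1 1 * (n2 K)⁻¹ = X 20 1 * X 22 1 * X 17 1 := by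
      rw [← W_b2_neg]
      simp [b2ClassWord, W_cons, f4ma, f4mb, f4mab, f4maab, CharTwo.add_self_eq_zero, mul_assoc, X_zero]
    have h2 : xb e (0 : K) 1 = X 28 1 * X 30 1 := by
      unfold xb NF
      rw [zero_pow (by omega), zero_pow (by omega)]
      simp [X_zero]
    have h3 : xb e (1 : K) 0 = X 27 1 * X 25 1 * X 28 1 := by
      unfold xb NF
      rw [zero_pow (by omega)]
      simp [X_zero]
    rw [h1, h2, h3, n2_eq])

theorem tt_mem1 (hφ : Rln φ e) (hdec : Dec K e) (t : Kˣ) : tt hdec 1 t ∈ Rone (U0 K e) (m1 K e) := by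
  obtain ⟨y, rfl⟩ := exists_sq hφ t
  have h := comm_mem_Rone (U := U0 K e) (s := m1 K e) (h := tt hdec 1 y) (h' := (m1 K e)⁻¹ * tt hdec 1 y * m1 K e)
    (a := ⟨xa e 1, xa_mem 1⟩) (b := ⟨xa e 1, xa_mem 1⟩) (c := ⟨xa e 1, xa_mem 1⟩)
    (tt_conj_U0 hdec 1 y) (by
      have h1 : (m1 K e)⁻¹ * tt hdec 1 y * m1 K e = tt hdec 1 y⁻¹ := by
        have h2 := m1_tt hdec y
        rw [m1_inv] at h2 ⊢
        exact h2
      rw [h1]
      exact tt_conj_U0 hdec 1 y⁻¹) (by group) (xa_U 1) (xa_U 1) (xa_U 1) m1_word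
  have h1 : tt hdec 1 y * m1 K e * (tt hdec 1 y)⁻¹ * (m1 K e)⁻¹ = tt hdec 1 (y * y) := by
    have h2 : tt hdec 1 y * m1 K e * (tt hdec 1 y)⁻¹ * (m1 K e)⁻¹ =
        tt hdec 1 y * (m1 K e * (tt hdec 1 y)⁻¹ * (m1 K e)⁻¹) := by group
    rw [h2, tt_inv, inv_one, m1_tt, inv_inv, tt_mul, mul_one]
  rwa [h1] at h

theorem tt_mem2 (hφ : Rln φ e) (hdec : Dec K e) (s : Kˣ) : tt hdec s 1 ∈ Rone (U0 K e) (m2 hφ) := by
  obtain ⟨y, rfl⟩ := exists_sq hφ s
  have h := comm_mem_Rone (U := U0 K e) (s := m2 hφ) (h := tt hdec y 1) (h' := (m2 hφ)⁻¹ * tt hdec y 1 * m2 hφ)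
    (a := ⟨xb e 0 1, xb_mem 0 1⟩) (b := ⟨xb e 1 1, xb_mem 1 1⟩) (c := ⟨xb e 1 0, xb_mem 1 0⟩)
    (tt_conj_U0 hdec y 1) (by
      have h1 : (m2 hφ)⁻¹ * tt hdec y 1 * m2 hφ = tt hdec y⁻¹ 1 := by
        have h2 := m2_tt hφ hdec y
        rw [m2_inv] at h2 ⊢
        exact h2
      rw [h1]
      exact tt_conj_U0 hdec y⁻¹ 1) (by group) (xb_U 0 1) (xb_U 1 1) (xb_U 1 0) (m2_word hφ)
  have h1 : tt hdec y 1 * m2 hφ * (tt hdec y 1)⁻¹ * (m2 hφ)⁻¹ = tt hdec (y * y) 1 := by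
    have h2 : tt hdec y 1 * m2 hφ * (tt hdec y 1)⁻¹ * (m2 hφ)⁻¹ =
        tt hdec y 1 * (m2 hφ * (tt hdec y 1)⁻¹ * (m2 hφ)⁻¹) := by group
    rw [h2, tt_inv, inv_one, m2_tt, inv_inv, tt_mul, mul_one]
  rwa [h1] at h

/-- `⟨U, U^{n₁}⟩ ∩ B` -/
theorem bound1 (hφ : Rln φ e) (hdec : Dec K e) {x : ↥(twistedF4 K e)} (hx : x ∈ Rone (U0 K e) (m1 K e))
    {u : ↥(twistedF4 K e)} (hu : u ∈ U0 K e) {s t : Kˣ} (hxu : x = u * tt hdec s t) : s = 1 := by
  have h1 : Rone (U0 K e) (m1 K e) ≤ (PP K).subgroupOf (twistedF4 K e) := by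
    refine sup_le (fun y hy => U_le_PP hy) ?_
    rintro _ ⟨y, hy, rfl⟩
    show n1 K * (y : GL chevF4.Idx K) * (n1 K)⁻¹ ∈ PP K
    exact mul_mem (mul_mem n1_mem_PP (U_le_PP hy)) (inv_mem n1_mem_PP)
  have h2 : ((tt hdec s t : ↥(twistedF4 K e)) : GL chevF4.Idx K) ∈ PP K := by
    have h3 : tt hdec s t = u⁻¹ * x := by rw [hxu]; group
    rw [h3]
    exact mul_mem (inv_mem (U_le_PP hu)) (h1 hx)
  have h3 := (mem_PP.1 h2).2
  have h4 : ((tt hdec s t : ↥(twistedF4 K e)) : GL chevF4.Idx K) * X 45 1 *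
      ((tt hdec s t : ↥(twistedF4 K e)) : GL chevF4.Idx K)⁻¹ = X 45 ((chi (tc e s t) 45 : K) * 1) :=
    T_conj_X _ (by norm_num) 1
  rw [h4, X_inv, X_add, mul_one] at h3
  have h5 := X45_mem h3
  rw [chi_tc_45] at h5
  have h6 : (s ^ e) ^ 2 * s⁻¹ = 1 := by
    apply Units.ext
    rw [Units.val_one]
    have h7 := CharTwo.add_eq_iff_eq_add.1 h5
    rw [zero_add] at h7
    exact h7
  have h7 : (s ^ e) ^ 2 = s := by rwa [mul_inv_eq_one] at h6
  have h8 : (s ^ e) ^ (2 * e) = s := by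
    have := units_pow (K := K) hφ s
    rw [← pow_mul, show e * (2 * e) = 2 * e * e by ring]
    exact this
  have h9 : (s ^ e) ^ (2 * e) = s ^ e := by rw [pow_mul, h7]
  have h10 : s ^ e = s := by rw [← h9, h8]
  rw [h10] at h7
  have h11 : s * s = s := by rw [← pow_two]; exact h7
  exact mul_eq_left.1 h11

/-- `⟨U, U^{n₂}⟩ ∩ B` -/
theorem bound2 (hφ : Rln φ e) (hdec : Dec K e) {x : ↥(twistedF4 K e)} (hx : x ∈ Rone (U0 K e) (m2 hφ))
    {u : ↥(twistedF4 K e)} (hu : u ∈ U0 K e) {s t : Kˣ} (hxu : x = u * tt hdec s t) : t = 1 := by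
  have h1 : Rone (U0 K e) (m2 hφ) ≤
      (Subgroup.centralizer {(X 44 1 : GL chevF4.Idx K)}).subgroupOf (twistedF4 K e) := by
    refine sup_le (fun y hy => U_le_C44 hy) ?_
    rintro _ ⟨y, hy, rfl⟩
    show n2 K * (y : GL chevF4.Idx K) * (n2 K)⁻¹ ∈ Subgroup.centralizer {(X 44 1 : GL chevF4.Idx K)}
    exact mul_mem (mul_mem n2_mem_C44 (U_le_C44 hy)) (inv_mem n2_mem_C44)
  have h2 : ((tt hdec s t : ↥(twistedF4 K e)) : GL chevF4.Idx K) ∈
      Subgroup.centralizer {(X 44 1 : GL chevF4.Idx K)} := by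
    have h3 : tt hdec s t = u⁻¹ * x := by rw [hxu]; group
    rw [h3]
    exact mul_mem (inv_mem (U_le_C44 hu)) (h1 hx)
  have h3 := Subgroup.mem_centralizer_singleton_iff.1 h2
  have h4 : ((tt hdec s t : ↥(twistedF4 K e)) : GL chevF4.Idx K) * X 44 1 *
      ((tt hdec s t : ↥(twistedF4 K e)) : GL chevF4.Idx K)⁻¹ = X 44 ((chi (tc e s t) 44 : K) * 1) :=
    T_conj_X _ (by norm_num) 1
  rw [h3, mul_inv_cancel_right, mul_one, chi_tc_44] at h4
  have h5 := X_inj (K := K) ⟨by norm_num, by norm_num⟩ h4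
  have h6 : t ^ e = 1 := by
    apply Units.ext
    rw [Units.val_one]
    exact h5.symm
  have h7 := units_pow (K := K) hφ t
  rw [mul_comm, pow_mul, h6, one_pow] at h7
  exact h7.symm

/-! ### fixed points -/

theorem decU_a (hφ : Rln φ e) {u : ↥(twistedF4 K e)} (hu : u ∈ U0 K e) :
    ∃ v ∈ V1 K e, ∃ t : K, u = v * ⟨xa e t, xa_mem t⟩ := by
  obtain ⟨v, hv, t, h⟩ := decomp_a (u := (u : GL chevF4.Idx K)) hφ hu u.2
  have hvG : v ∈ twistedF4 K e := by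
    have h1 : v = (u : GL chevF4.Idx K) * (xa e t)⁻¹ := by rw [h]; group
    rw [h1]; exact mul_mem u.2 (inv_mem (xa_mem t))
  exact ⟨⟨v, hvG⟩, hv, t, Subtype.ext h⟩

theorem decU_b (hφ : Rln φ e) {u : ↥(twistedF4 K e)} (hu : u ∈ U0 K e) :
    ∃ v ∈ V8 K e, ∃ t w : K, u = v * ⟨xb e t w, xb_mem t w⟩ := by
  obtain ⟨v, hv, t, w, h⟩ := decomp_b (u := (u : GL chevF4.Idx K)) hφ hu u.2
  have hvG : v ∈ twistedF4 K e := by
    have h1 : v = (u : GL chevF4.Idx K) * (xb e t w)⁻¹ := by rw [h]; group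
    rw [h1]; exact mul_mem u.2 (inv_mem (xb_mem t w))
  exact ⟨⟨v, hvG⟩, hv, t, w, Subtype.ext h⟩

theorem comm_a (hφ : Rln φ e) (hdec : Dec K e) (s t : Kˣ) {u v : ↥(twistedF4 K e)} (hv : v ∈ V1 K e) {x : K}
    (hu : u = v * ⟨xa e x, xa_mem x⟩) : ∃ w ∈ V1 K e, tt hdec s t * u * (tt hdec s t)⁻¹ * u⁻¹ =
      w * ⟨xa e ((chi (tc e s t) 24 : K) * x + x), xa_mem _⟩ * v⁻¹ := by
  refine ⟨tt hdec s t * v * (tt hdec s t)⁻¹, conj_V1 (tt_B0 hdec s t) hv, ?_⟩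
  apply Subtype.ext
  show T (tc e s t) * (u : GL chevF4.Idx K) * (T (tc e s t))⁻¹ * (u : GL chevF4.Idx K)⁻¹ =
    (T (tc e s t) * (v : GL chevF4.Idx K) * (T (tc e s t))⁻¹) * xa e ((chi (tc e s t) 24 : K) * x + x) *
      (v : GL chevF4.Idx K)⁻¹
  have h1 : (u : GL chevF4.Idx K) = (v : GL chevF4.Idx K) * xa e x := by rw [hu]; rfl
  have h2 : (xa e x)⁻¹ = xa e x := by
    rw [inv_eq_iff_mul_eq_one, ← xa_add hφ, CharTwo.add_self_eq_zero]
    unfold xa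
    rw [zero_pow (by have := hφ.pos; omega)]
    simp [X_zero]
  rw [xa_add hφ, ← T_conj_xa, h1, mul_inv_rev, h2]
  group

theorem comm_b (hφ : Rln φ e) (hdec : Dec K e) (s t : Kˣ) {u v : ↥(twistedF4 K e)} (hv : v ∈ V8 K e) {x y : K}
    (hu : u = v * ⟨xb e x y, xb_mem x y⟩) : ∃ w ∈ V8 K e, ((tt hdec s t * u * (tt hdec s t)⁻¹ * u⁻¹ :
      ↥(twistedF4 K e)) : GL chevF4.Idx K) = (w : GL chevF4.Idx K) *
      (xb e ((chi (tc e s t) 25 : K) * x) ((chi (tc e s t) 25 : K) ^ (e + 1) * y) * (xb e x y)⁻¹) *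
        (v : GL chevF4.Idx K)⁻¹ := by
  refine ⟨tt hdec s t * v * (tt hdec s t)⁻¹, conj_V8 (tt_B0 hdec s t) hv, ?_⟩
  show T (tc e s t) * (u : GL chevF4.Idx K) * (T (tc e s t))⁻¹ * (u : GL chevF4.Idx K)⁻¹ =
    (T (tc e s t) * (v : GL chevF4.Idx K) * (T (tc e s t))⁻¹) *
      (xb e ((chi (tc e s t) 25 : K) * x) ((chi (tc e s t) 25 : K) ^ (e + 1) * y) * (xb e x y)⁻¹) *
        (v : GL chevF4.Idx K)⁻¹
  have h1 : (u : GL chevF4.Idx K) = (v : GL chevF4.Idx K) * xb e x y := by rw [hu]; rfl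
  rw [← T_conj_xb hφ, h1, mul_inv_rev]
  group

/-- fixed-point-free on `U / V₁` -/
theorem fpf1 (hφ : Rln φ e) (hdec : Dec K e) {s t : Kˣ} (hst : chi (tc e s t) 24 ≠ 1) {u : ↥(twistedF4 K e)}
    (hu : u ∈ U0 K e) (h : tt hdec s t * u * (tt hdec s t)⁻¹ * u⁻¹ ∈ V1 K e) : u ∈ V1 K e := by
  obtain ⟨v, hv, x, hux⟩ := decU_a hφ hu
  obtain ⟨w, hw, e1⟩ := comm_a hφ hdec s t hv hux
  rw [e1] at h
  have h2 : (⟨xa e ((chi (tc e s t) 24 : K) * x + x), xa_mem _⟩ : ↥(twistedF4 K e)) ∈ V1 K e := by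
    have h3 := mul_mem (mul_mem (inv_mem hw) h) hv
    have h4 : w⁻¹ * (w * ⟨xa e ((chi (tc e s t) 24 : K) * x + x), xa_mem _⟩ * v⁻¹) * v =
        (⟨xa e ((chi (tc e s t) 24 : K) * x + x), xa_mem _⟩ : ↥(twistedF4 K e)) := by group
    rwa [h4] at h3
  have h3 := xa_ge2 hφ.pos.ne' h2
  have h4 : ((chi (tc e s t) 24 : K) + 1) * x = 0 := by rw [add_mul, one_mul]; exact h3
  rcases mul_eq_zero.1 h4 with h5 | h5
  · exfalso
    apply hst
    apply Units.ext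
    rw [Units.val_one]
    have h7 := CharTwo.add_eq_iff_eq_add.1 h5
    rwa [zero_add] at h7
  · rw [hux, h5]
    have h6 : (⟨xa e 0, xa_mem 0⟩ : ↥(twistedF4 K e)) = 1 := by
      apply Subtype.ext
      show xa e 0 = 1
      unfold xa
      rw [zero_pow (by have := hφ.pos; omega)]
      simp [X_zero]
    rw [h6, mul_one]
    exact hv

/-- `h` centralises `U / V₁` -/
theorem cen1 (hφ : Rln φ e) (hdec : Dec K e) {s t : Kˣ} (hst : chi (tc e s t) 24 = 1) {u : ↥(twistedF4 K e)}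
    (hu : u ∈ U0 K e) : tt hdec s t * u * (tt hdec s t)⁻¹ * u⁻¹ ∈ V1 K e := by
  obtain ⟨v, hv, x, hux⟩ := decU_a hφ hu
  obtain ⟨w, hw, e1⟩ := comm_a hφ hdec s t hv hux
  rw [e1]
  have h6 : (⟨xa e ((chi (tc e s t) 24 : K) * x + x), xa_mem _⟩ : ↥(twistedF4 K e)) = 1 := by
    apply Subtype.ext
    show xa e ((chi (tc e s t) 24 : K) * x + x) = 1
    rw [hst, Units.val_one, one_mul, CharTwo.add_self_eq_zero]
    unfold xa
    rw [zero_pow (by have := hφ.pos; omega)]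
    simp [X_zero]
  rw [h6, mul_one]
  exact mul_mem hw (inv_mem hv)

/-- fixed-point-free on `U / V₈` -/
theorem fpf2 (hφ : Rln φ e) (hdec : Dec K e) {s t : Kˣ} (hst : chi (tc e s t) 25 ≠ 1) {u : ↥(twistedF4 K e)}
    (hu : u ∈ U0 K e) (h : tt hdec s t * u * (tt hdec s t)⁻¹ * u⁻¹ ∈ V8 K e) : u ∈ V8 K e := by
  obtain ⟨v, hv, x, y, hux⟩ := decU_b hφ hu
  obtain ⟨w, hw, e1⟩ := comm_b hφ hdec s t hv hux
  set c : Kˣ := chi (tc e s t) 25 with hc
  have h2 : xb e ((c : K) * x) ((c : K) ^ (e + 1) * y) * (xb e x y)⁻¹ ∈ GA K (leB 7) := by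
    have h3 : ((tt hdec s t * u * (tt hdec s t)⁻¹ * u⁻¹ : ↥(twistedF4 K e)) : GL chevF4.Idx K) ∈ GA K (leB 7) := h
    rw [e1] at h3
    have h4 := mul_mem (mul_mem (inv_mem (show (w : GL chevF4.Idx K) ∈ GA K (leB 7) from hw)) h3)
      (show (v : GL chevF4.Idx K) ∈ GA K (leB 7) from hv)
    have h5 : (w : GL chevF4.Idx K)⁻¹ * ((w : GL chevF4.Idx K) *
      (xb e ((c : K) * x) ((c : K) ^ (e + 1) * y) * (xb e x y)⁻¹) * (v : GL chevF4.Idx K)⁻¹) *
        (v : GL chevF4.Idx K) = xb e ((c : K) * x) ((c : K) ^ (e + 1) * y) * (xb e x y)⁻¹ := by group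
    rwa [h5] at h4
  have h3 : xb e ((c : K) * x) ((c : K) ^ (e + 1) * y) * (xb e x y)⁻¹ ∈ GA K (clsB 8) :=
    mul_mem (xb_pos e _ _) (inv_mem (xb_pos e _ _))
  have h4 : xb e ((c : K) * x) ((c : K) ^ (e + 1) * y) * (xb e x y)⁻¹ = 1 := by
    by_contra hne
    exact conj_not_mem hne (neg_le_neg' (cls_neg (by norm_num)) (n2_8_16 _ h3)) (U_le_borel (n2_le7 _ h2))
  have h5 : xb e ((c : K) * x) ((c : K) ^ (e + 1) * y) = xb e x y := by rwa [mul_inv_eq_one] at h4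
  have h6 := NF_coord (congrArg (fun g : GL chevF4.Idx K =>
    Cfsg.Agent.ChevalleyStructure.TwF4.Fix.Amat (g : Matrix chevF4.Idx chevF4.Idx K)) h5)
  have hx0 : x = 0 := by
    have h7 : ((c : K) + 1) * x = 0 := by
      rw [add_mul, one_mul]
      have := h6.2.1
      rw [this]
      exact CharTwo.add_self_eq_zero _
    rcases mul_eq_zero.1 h7 with h8 | h8
    · exfalso
      apply hst
      apply Units.ext
      rw [Units.val_one]
      have h9 := CharTwo.add_eq_iff_eq_add.1 h8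
      rwa [zero_add] at h9
    · exact h8
  have hy0 : y = 0 := by
    have h7 := h6.2.2.1
    rw [hx0, mul_zero, zero_pow (by omega), zero_add, zero_add] at h7
    by_contra hy
    have h8 : (c : K) ^ (e + 1) = 1 := mul_right_cancel₀ hy (by rw [one_mul]; exact h7)
    apply hst
    have h9 : c ^ (e + 1) = 1 := Units.ext (by rw [Units.val_pow_eq_pow_val, Units.val_one]; exact h8)
    have h10 := exists_root (K := K) hφ c
    have h11 : ((c ^ (2 * e))⁻¹ * c ^ 2) ^ (e + 1) = 1 := by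
      rw [mul_pow, inv_pow, ← pow_mul, ← pow_mul, mul_comm (2 * e) (e + 1), mul_comm 2 (e + 1),
        pow_mul c (e + 1) (2 * e), pow_mul c (e + 1) 2, h9, one_pow, one_pow, inv_one, one_mul]
    rw [← h10, h11]
  rw [hux, hx0, hy0]
  have h6 : (⟨xb e 0 0, xb_mem 0 0⟩ : ↥(twistedF4 K e)) = 1 := Subtype.ext (xb_zero hφ)
  rw [h6, mul_one]
  exact hv

end TwistedGroup

/-! ### (F1) -/

section FOneSec

variable {K : Type*} [Field K] [Fintype K] [CharP K 2] {φ : K →+* K} {e : ℕ}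

theorem rep_one_le : rep 1 = 1 ∧ rep 2 = 2 ∧ rep 3 = 3 ∧ rep 4 = 4 ∧ rep 5 = 5 ∧ rep 6 = 6 ∧ rep 7 = 7 ∧ rep 8 = 8 := by
  decide

theorem XX_le (k : ZMod (2 * 8)) (h : rep k ≤ 8) : XX K e k ≤ U0 K e := fun _ hg =>
  pos_le_pos (cls_pos h) hg

theorem U1 (hφ : Rln φ e) (t : K) : y1 hφ t ∈ U0 K e := XX_le 1 (by decide) ((memXX1 hφ _).2 ⟨t, rfl⟩)
theorem U3 (hφ : Rln φ e) (t : K) : y3 hφ t ∈ U0 K e := XX_le 3 (by decide) ((memXX3 hφ _).2 ⟨t, rfl⟩)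
theorem U5 (hφ : Rln φ e) (t : K) : y5 hφ t ∈ U0 K e := XX_le 5 (by decide) ((memXX5 hφ _).2 ⟨t, rfl⟩)
theorem U7 (hφ : Rln φ e) (t : K) : y7 hφ t ∈ U0 K e := XX_le 7 (by decide) ((memXX7 hφ _).2 ⟨t, rfl⟩)
theorem U2 (hφ : Rln φ e) (p u : K) : y2 hφ p u ∈ U0 K e := XX_le 2 (by decide) ((memXX2 hφ _).2 ⟨p, u, rfl⟩)
theorem U4 (hφ : Rln φ e) (p u : K) : y4 hφ p u ∈ U0 K e := XX_le 4 (by decide) ((memXX4 hφ _).2 ⟨p, u, rfl⟩)
theorem U6 (hφ : Rln φ e) (p u : K) : y6 hφ p u ∈ U0 K e := XX_le 6 (by decide) ((memXX6 hφ _).2 ⟨p, u, rfl⟩)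
theorem U8 (hφ : Rln φ e) (p u : K) : y8 hφ p u ∈ U0 K e := XX_le 8 (by decide) ((memXX8 hφ _).2 ⟨p, u, rfl⟩)

theorem relU (hφ : Rln φ e) : OctRel φ (fun t => (⟨y1 hφ t, U1 hφ t⟩ : ↥(U0 K e))) (fun t => ⟨y3 hφ t, U3 hφ t⟩)
    (fun t => ⟨y5 hφ t, U5 hφ t⟩) (fun t => ⟨y7 hφ t, U7 hφ t⟩) (fun p u => ⟨y2 hφ p u, U2 hφ p u⟩)
    (fun p u => ⟨y4 hφ p u, U4 hφ p u⟩) (fun p u => ⟨y6 hφ p u, U6 hφ p u⟩) (fun p u => ⟨y8 hφ p u, U8 hφ p u⟩) :=
  have R := (octPar hφ).toOctRel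
  { m1 := fun t s => Subtype.ext (R.m1 t s)
    m2 := fun p u q v => Subtype.ext (R.m2 p u q v)
    m3 := fun t s => Subtype.ext (R.m3 t s)
    m4 := fun p u q v => Subtype.ext (R.m4 p u q v)
    m5 := fun t s => Subtype.ext (R.m5 t s)
    m6 := fun p u q v => Subtype.ext (R.m6 p u q v)
    m7 := fun t s => Subtype.ext (R.m7 t s)
    m8 := fun p u q v => Subtype.ext (R.m8 p u q v)
    r12 := fun t q v => Subtype.ext (R.r12 t q v)
    r13 := fun t s => Subtype.ext (R.r13 t s)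
    r14 := fun t q v => Subtype.ext (R.r14 t q v)
    r15 := fun t s => Subtype.ext (R.r15 t s)
    r16 := fun t q v => Subtype.ext (R.r16 t q v)
    r17 := fun t s => Subtype.ext (R.r17 t s)
    r18 := fun t q v => Subtype.ext (R.r18 t q v)
    r23 := fun p u s => Subtype.ext (R.r23 p u s)
    r24 := fun p u q v => Subtype.ext (R.r24 p u q v)
    r25 := fun p u s => Subtype.ext (R.r25 p u s)
    r26 := fun p u q v => Subtype.ext (R.r26 p u q v)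
    r27 := fun p u s => Subtype.ext (R.r27 p u s)
    r28 := fun p u q v => Subtype.ext (R.r28 p u q v)
    r34 := fun t q v => Subtype.ext (R.r34 t q v)
    r35 := fun t s => Subtype.ext (R.r35 t s)
    r36 := fun t q v => Subtype.ext (R.r36 t q v)
    r37 := fun t s => Subtype.ext (R.r37 t s)
    r38 := fun t q v => Subtype.ext (R.r38 t q v)
    r45 := fun p u s => Subtype.ext (R.r45 p u s)
    r46 := fun p u q v => Subtype.ext (R.r46 p u q v)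
    r47 := fun p u s => Subtype.ext (R.r47 p u s)
    r48 := fun p u q v => Subtype.ext (R.r48 p u q v)
    r56 := fun t q v => Subtype.ext (R.r56 t q v)
    r57 := fun t s => Subtype.ext (R.r57 t s)
    r58 := fun t q v => Subtype.ext (R.r58 t q v)
    r67 := fun p u s => Subtype.ext (R.r67 p u s)
    r68 := fun p u q v => Subtype.ext (R.r68 p u q v)
    r78 := fun t q v => Subtype.ext (R.r78 t q v) }

theorem phi_surj (_ : Rln φ e) : Function.Surjective φ := Finite.surjective_of_injective φ.injective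

theorem mem_comm_of {x : ↥(twistedF4 K e)} (hx : x ∈ U0 K e)
    (h : (Abelianization.of : ↥(U0 K e) →* _) ⟨x, hx⟩ = 1) : x ∈ ⁅U0 K e, U0 K e⁆ := by
  have h1 : (⟨x, hx⟩ : ↥(U0 K e)) ∈ commutator ↥(U0 K e) := by
    rw [← Abelianization.ker_of]
    exact h
  have h2 : x ∈ (commutator ↥(U0 K e)).map (U0 K e).subtype := ⟨_, h1, rfl⟩
  rw [Subgroup.map_subtype_commutator] at h2
  exact h2

/-- the middle root groups lie in `U'` -/
theorem mid (hφ : Rln φ e) {c : K} (hc0 : c ≠ 0) (hc1 : c ≠ 1) (k : ℕ) (h2 : 2 ≤ k) (h7 : k ≤ 7)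
    {x : ↥(twistedF4 K e)} (hx : (x : GL chevF4.Idx K) ∈ GA K (clsB k)) : x ∈ ⁅U0 K e, U0 K e⁆ := by
  obtain ⟨g2, g3, g4, g5, g6, g7⟩ := OctPerf.ab_all (relU hφ) (phi_surj hφ) hc0 hc1
    (Abelianization.of : ↥(U0 K e) →* _)
  have hk : k = 2 ∨ k = 3 ∨ k = 4 ∨ k = 5 ∨ k = 6 ∨ k = 7 := by omega
  rcases hk with rfl | rfl | rfl | rfl | rfl | rfl
  · obtain ⟨p, u, rfl⟩ := (memXX2 hφ x).1 hx
    exact mem_comm_of _ (g2 p u)
  · obtain ⟨p, rfl⟩ := (memXX3 hφ x).1 hx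
    exact mem_comm_of _ (g3 p)
  · obtain ⟨p, u, rfl⟩ := (memXX4 hφ x).1 hx
    exact mem_comm_of _ (g4 p u)
  · obtain ⟨p, rfl⟩ := (memXX5 hφ x).1 hx
    exact mem_comm_of _ (g5 p)
  · obtain ⟨p, u, rfl⟩ := (memXX6 hφ x).1 hx
    exact mem_comm_of _ (g6 p u)
  · obtain ⟨p, rfl⟩ := (memXX7 hφ x).1 hx
    exact mem_comm_of _ (g7 p)

theorem cls_le7 {k : ℕ} (h2 : 1 ≤ k) (h7 : k ≤ 7) {x : GL chevF4.Idx K} (hx : x ∈ GA K (clsB k)) :
    x ∈ GA K (leB 7) := by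
  refine GA_mono (fun s hs h => ?_) hx
  have h1 : cls s = k := of_decide_eq_true h
  have h2 := cls_pos (k := k) (by omega) s hs h
  unfold leB
  rw [Bool.and_eq_true]
  exact ⟨decide_eq_true h2, decide_eq_true (by omega)⟩

theorem dec_ge (hφ : Rln φ e) {c : K} (hc0 : c ≠ 0) (hc1 : c ≠ 1) : ∀ n k : ℕ, k + n = 8 → 1 ≤ k →
    ∀ w : ↥(twistedF4 K e), (w : GL chevF4.Idx K) ∈ GA K (geB (k + 1)) →
    ∃ y : ↥(twistedF4 K e), (y : GL chevF4.Idx K) ∈ GA K (clsB 8) ∧ ∃ d : ↥(twistedF4 K e),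
      d ∈ ⁅U0 K e, U0 K e⁆ ∧ d ∈ V8 K e ∧ w = y * d := by
  intro n
  induction n with
  | zero =>
    intro k hk h1 w hw
    have : k = 8 := by omega
    subst this
    have h2 := GA_geB9 _ hw
    refine ⟨1, one_mem _, 1, one_mem _, one_mem _, ?_⟩
    rw [mul_one]
    exact Subtype.ext h2
  | succ n ih =>
    intro k hk h1 w hw
    obtain ⟨v, hv, x, hx, hvF, hxF, hvx⟩ := peel hφ k (by omega) _ hw (twisted_le_Fix hφ w.2)
    have hvG : v ∈ twistedF4 K e := geB_le hφ n (k + 1) (by omega) v hv hvF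
    have hxG : x ∈ twistedF4 K e := cls_le hφ k (by omega) x hx hxF
    obtain ⟨y, hy, d, hd, hd8, hvy⟩ := ih (k + 1) (by omega) (by omega) ⟨v, hvG⟩ hv
    rcases Nat.lt_or_ge k 7 with h7 | h7
    · refine ⟨y, hy, d * ⟨x, hxG⟩, mul_mem hd (mid hφ hc0 hc1 (k + 1) (by omega) (by omega) hx),
        mul_mem hd8 (cls_le7 (by omega) (by omega) hx), ?_⟩
      apply Subtype.ext
      rw [hvx]
      have h3 := congrArg (fun g : ↥(twistedF4 K e) => (g : GL chevF4.Idx K)) hvy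
      have h4 : v = (y : GL chevF4.Idx K) * (d : GL chevF4.Idx K) := h3
      rw [Subgroup.coe_mul, Subgroup.coe_mul, h4]
      group
    · have : k = 7 := by omega
      subst this
      have h3 := GA_geB9 _ hv
      refine ⟨⟨x, hxG⟩, hx, 1, one_mem _, one_mem _, ?_⟩
      rw [mul_one]
      apply Subtype.ext
      rw [hvx, h3, one_mul]

theorem V_inf (hφ : Rln φ e) {c : K} (hc0 : c ≠ 0) (hc1 : c ≠ 1) {w : ↥(twistedF4 K e)} (h1 : w ∈ V1 K e)
    (h8 : w ∈ V8 K e) : w ∈ ⁅U0 K e, U0 K e⁆ := by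
  obtain ⟨y, hy, d, hd, hd8, rfl⟩ := dec_ge hφ hc0 hc1 7 1 (by norm_num) le_rfl w h1
  have h2 : (y : GL chevF4.Idx K) ∈ GA K (leB 7) := by
    have h3 : y = (y * d) * d⁻¹ := by group
    rw [h3]
    exact mul_mem h8 (inv_mem hd8)
  have h4 : (y : GL chevF4.Idx K) = 1 := by
    by_contra hne
    exact conj_not_mem hne (neg_le_neg' (cls_neg (by norm_num)) (n2_8_16 _ hy)) (U_le_borel (n2_le7 _ h2))
  have h5 : y = 1 := Subtype.ext h4
  rw [h5, one_mul]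
  exact hd

end FOneSec

/-! ### the theorem -/

section Final

variable {K : Type*} [Field K] [Fintype K] {m : ℕ}

theorem card_ge (hm : 1 ≤ m) (hK : Fintype.card K = 2 ^ (2 * m + 1)) : ∃ c : K, c ≠ 0 ∧ c ≠ 1 := by
  by_contra h
  push Not at h
  have h1 : Fintype.card K ≤ 2 := by
    classical
    have h2 : (Finset.univ : Finset K) ⊆ {0, 1} := by
      intro x _
      by_cases hx : x = 0
      · simp [hx]
      · simp [h x hx]
    calc Fintype.card K = (Finset.univ : Finset K).card := rfl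
      _ ≤ ({0, 1} : Finset K).card := Finset.card_le_card h2
      _ ≤ 2 := Finset.card_le_two
  rw [hK] at h1
  have h2 : 2 ^ 3 ≤ 2 ^ (2 * m + 1) := Nat.pow_le_pow_right (by norm_num) (by omega)
  omega

/-- **The facts on `²F₄(q)`, `q ≥ 8`, all together.** -/
theorem exists_all (hm : 1 ≤ m) (hK : Fintype.card K = 2 ^ (2 * m + 1)) :
    ∃ (Q : Cfsg.BNPair ↥(twistedF4 K (2 ^ m))) (UE : Subgroup ↥(twistedF4 K (2 ^ m)))
      (s t : ↥(twistedF4 K (2 ^ m))), KPair 2 Q UE s t ∧ KTor Q UE s t ∧ SepE Q UE s t ∧ FpfR Q UE s t ∧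
        FpfR Q UE t s := by
  haveI : CharP K 2 := charP_two hK
  haveI : Fact (Nat.Prime 2) := ⟨Nat.prime_two⟩
  obtain ⟨φ, hφ⟩ := exists_rln hK
  obtain ⟨P, hPB, hPN, -, hPS⟩ := Cfsg.Agent.ChevalleyStructure.TwF4.BNIrred.exists_bnPair_irreducible hφ
  have hB : P.B = B0 K (2 ^ m) := hPB
  have hdec := dec hK hφ
  have hUp := isPGroup_U0 hK
  obtain ⟨c, hc0, hc1⟩ := card_ge hm hK
  set s1 : ↥(twistedF4 K (2 ^ m)) := m1 K (2 ^ m) with hs1
  set s2 : ↥(twistedF4 K (2 ^ m)) := m2 hφ with hs2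
  have node_1 : Cfsg.Agent.Schreier.BNSch.Node P (U0 K (2 ^ m)) s1 (V1 K (2 ^ m)) := node1 hφ hB
  have node_2 : Cfsg.Agent.Schreier.BNSch.Node P (U0 K (2 ^ m)) s2 (V8 K (2 ^ m)) := node2 hφ hB
  have hdB : ∀ b ∈ P.B, ∃ s t : Kˣ, ∃ u ∈ U0 K (2 ^ m), b = u * tt hdec s t := by
    intro b hb
    rw [hB] at hb
    obtain ⟨s, t, u, hu, hbu⟩ := hdec.1 b hb
    exact ⟨s, t, u, hu, Subtype.ext hbu⟩
  have httB : ∀ s t : Kˣ, tt hdec s t ∈ P.B := fun s t => by rw [hB]; exact tt_B0 hdec s t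
  have httN : ∀ s t : Kˣ, tt hdec s t ∈ P.N := fun s t => by
    rw [hPN]
    exact Cfsg.Agent.ChevalleyStructure.TwF4.NStruct.T_mem_N _
  have hH : ∀ h ∈ P.B, h ∈ P.N → ∃ s t : Kˣ, h = tt hdec s t := by
    intro h hh hN
    rw [hPB, Subgroup.mem_subgroupOf] at hh
    rw [hPN, Subgroup.mem_subgroupOf] at hN
    have h1 := borel_inf_N ⟨hh, hN⟩
    obtain ⟨s, t, hst⟩ := (mem_iff hK (h : GL chevF4.Idx K)).1 ⟨h1, h.2⟩
    exact ⟨s, t, Subtype.ext hst⟩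
  have hUB : U0 K (2 ^ m) ≤ P.B := by rw [hB]; exact U0_le_B0
  have hnorm : ∀ b ∈ P.B, ∀ u ∈ U0 K (2 ^ m), b * u * b⁻¹ ∈ U0 K (2 ^ m) := fun b hb u hu => by
    rw [hB] at hb
    exact conj_U0 hb hu
  have hsplit : FixBN.Split P 2 (U0 K (2 ^ m)) :=
    { le := hUB
      norm := hnorm
      isP := hUp
      cover := fun b hb => by
        obtain ⟨s, t, u, hu, rfl⟩ := hdB b hb
        refine ⟨u, hu, ?_⟩
        rw [inv_mul_cancel_left]
        exact httN s t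
      tor := ⟨2 ^ (2 * m + 1) - 1, by
        have h1 : 2 ∣ 2 ^ (2 * m + 1) := dvd_pow_self 2 (by omega)
        have h2 : 0 < 2 ^ (2 * m + 1) := by positivity
        omega, fun h hh hN => by
        obtain ⟨s, t, rfl⟩ := hH h hh hN
        apply Subtype.ext
        show T (tc (2 ^ m) s t) ^ (2 ^ (2 * m + 1) - 1) = 1
        rw [← map_pow]
        have h2 : tc (2 ^ m) s t ^ (2 ^ (2 * m + 1) - 1) = 1 := by
          have h3 : ∀ x : Kˣ, x ^ (2 ^ (2 * m + 1) - 1) = 1 := by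
            intro x
            have h4 := pow_card_eq_one' (x := x)
            rwa [Nat.card_units, Nat.card_eq_fintype_card, hK] at h4
          funext l
          rw [Pi.pow_apply, h3]; rfl
        rw [h2, map_one]⟩
      node := by
        intro s hs
        rw [hPS] at hs
        rcases hs with rfl | hs
        · exact ⟨_, node_1⟩
        · rw [Set.mem_singleton_iff] at hs
          subst hs
          exact ⟨_, node_2⟩
      core := by
        obtain ⟨hsimp, -⟩ := Cfsg.Agent.S1072.result hm hK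
        rcases hsimp.eq_bot_or_eq_top_of_normal P.B.normalCore inferInstance with h | h
        · exact h
        · exfalso
          have h1 : P.B = ⊤ := by
            rw [eq_top_iff, ← h]
            exact Subgroup.normalCore_le _
          obtain ⟨u, hu, huV⟩ := node_1.ne
          exact huV (node_1.stab u hu (by rw [h1]; exact Subgroup.mem_top _)) }
  have hV1B : ∀ v ∈ V1 K (2 ^ m), v ∈ P.B := fun v hv => hUB (node_1.le hv)
  have hV8B : ∀ v ∈ V8 K (2 ^ m), v ∈ P.B := fun v hv => hUB (node_2.le hv)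
  -- elements of `h u h⁻¹ u⁻¹`
  have hcU : ∀ s t : Kˣ, ∀ u ∈ U0 K (2 ^ m), tt hdec s t * u * (tt hdec s t)⁻¹ * u⁻¹ ∈ U0 K (2 ^ m) :=
    fun s t u hu => mul_mem (tt_conj_U0 hdec s t u hu) (inv_mem hu)
  have hfpf1 : ∀ s t : Kˣ, chi (tc (2 ^ m) s t) 24 ≠ 1 → ∀ u ∈ U0 K (2 ^ m),
      s1⁻¹ * (tt hdec s t * u * (tt hdec s t)⁻¹ * u⁻¹) * s1 ∈ P.B → s1⁻¹ * u * s1 ∈ P.B :=
    fun s t hst u hu h => hV1B _ (node_1.conj_s _ (fpf1 hφ hdec hst hu (node_1.stab _ (hcU s t u hu) h)))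
  have hfpf2 : ∀ s t : Kˣ, chi (tc (2 ^ m) s t) 25 ≠ 1 → ∀ u ∈ U0 K (2 ^ m),
      s2⁻¹ * (tt hdec s t * u * (tt hdec s t)⁻¹ * u⁻¹) * s2 ∈ P.B → s2⁻¹ * u * s2 ∈ P.B :=
    fun s t hst u hu h => hV8B _ (node_2.conj_s _ (fpf2 hφ hdec hst hu (node_2.stab _ (hcU s t u hu) h)))
  have hcen1 : ∀ s t : Kˣ, chi (tc (2 ^ m) s t) 24 = 1 → ∀ u ∈ U0 K (2 ^ m),
      s1⁻¹ * (tt hdec s t * u * (tt hdec s t)⁻¹ * u⁻¹) * s1 ∈ P.B :=
    fun s t hst u hu => hV1B _ (node_1.conj_s _ (cen1 hφ hdec hst hu))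
  set γ : Kˣ := Units.mk0 c hc0 with hγ
  have hγ1 : γ ≠ 1 := fun h => hc1 (by
    have := congrArg (fun x : Kˣ => (x : K)) h
    simpa [hγ] using this)
  have hinv1 : ∀ x ∈ Rone (U0 K (2 ^ m)) s1, x ∈ P.B → ∃ u ∈ U0 K (2 ^ m), ∃ t : Kˣ, x = u * tt hdec 1 t := by
    intro x hx hxB
    obtain ⟨s, t, u, hu, hxu⟩ := hdB x hxB
    have h1 := bound1 hφ hdec hx hu hxu
    subst h1
    exact ⟨u, hu, t, hxu⟩
  have hinv2 : ∀ x ∈ Rone (U0 K (2 ^ m)) s2, x ∈ P.B → ∃ u ∈ U0 K (2 ^ m), ∃ s : Kˣ, x = u * tt hdec s 1 := by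
    intro x hx hxB
    obtain ⟨s, t, u, hu, hxu⟩ := hdB x hxB
    have h1 := bound2 hφ hdec hx hu hxu
    subst h1
    exact ⟨u, hu, s, hxu⟩
  obtain ⟨g, hg⟩ := IsCyclic.exists_generator (α := Kˣ)
  refine ⟨P, U0 K (2 ^ m), s1, s2, ?_, ?_, ?_, ?_, ?_⟩
  · refine
      { split := hsplit
        S := hPS
        ne := ?_
        irr := ?_
        one := ?_
        gen := ?_
        fpfs := ?_
        fpft := ?_
        comm := ?_ }
    · intro h
      have h1 := congrArg (fun x : ↥(twistedF4 K (2 ^ m)) => (x : GL chevF4.Idx K)) h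
      have h2 : n1 K = n2 K := h1
      apply n1_inv_mul_n2 (K := K)
      rw [h2, inv_mul_cancel]
      exact one_mem _
    · rw [hB]
      exact Cfsg.Agent.ChevalleyStructure.TwF4.BNIrred.comm_not_mem
    · intro T0 hT0 hcov
      refine OctPerf.le_of_sup hUp hT0 ?_
      intro u hu
      obtain ⟨x, hx, h1, h2⟩ := hcov u hu
      have hxu : x⁻¹ * u ∈ U0 K (2 ^ m) := mul_mem (inv_mem (hT0 hx)) hu
      have h3 := node_1.stab _ hxu h1
      have h4 := node_2.stab _ hxu h2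
      have h5 := V_inf hφ hc0 hc1 h3 h4
      have h6 : u = x * (x⁻¹ * u) := by group
      rw [h6]
      exact mul_mem (Subgroup.mem_sup_left hx) (Subgroup.mem_sup_right h5)
    · intro b hb
      obtain ⟨s, t, u, hu, rfl⟩ := hdB b hb
      have h1 : u * tt hdec s t = (u * tt hdec 1 t) * tt hdec s 1 := by
        rw [mul_assoc, tt_mul, one_mul, mul_one]
      rw [h1]
      refine mul_mem (Subgroup.mem_sup_left ⟨mul_mem (le_Rone hu) (tt_mem1 hφ hdec t),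
        mul_mem (hUB hu) (httB 1 t)⟩) (Subgroup.mem_sup_right ⟨tt_mem2 hφ hdec s, httB s 1⟩)
    · refine ⟨tt hdec γ⁻¹ 1, ⟨httB _ _, httN _ _⟩, hfpf1 _ _ ?_⟩
      rw [chi_tc_24, inv_inv, one_pow, mul_one]
      exact hγ1
    · refine ⟨tt hdec 1 γ⁻¹, ⟨httB _ _, httN _ _⟩, hfpf2 _ _ ?_⟩
      rw [chi_tc_25]
      simpa using hγ1
    · intro x hx y hy
      obtain ⟨s, t, u, hu, rfl⟩ := hdB x hx
      obtain ⟨s', t', u', hu', rfl⟩ := hdB y hy
      have h1 : u * tt hdec s t * (u' * tt hdec s' t') * (u * tt hdec s t)⁻¹ * (u' * tt hdec s' t')⁻¹ =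
          u * (tt hdec s t * u' * (tt hdec s t)⁻¹) * (tt hdec s t * tt hdec s' t' * (tt hdec s t)⁻¹ *
            (tt hdec s' t')⁻¹) * (tt hdec s' t' * u⁻¹ * (tt hdec s' t')⁻¹) * u'⁻¹ := by group
      have h2 : tt hdec s t * tt hdec s' t' * (tt hdec s t)⁻¹ * (tt hdec s' t')⁻¹ = 1 := by
        rw [tt_mul, mul_comm s s', mul_comm t t', ← tt_mul]
        group
      rw [h1, h2, mul_one]
      exact mul_mem (mul_mem (mul_mem hu (tt_conj_U0 hdec s t u' hu')) (tt_conj_U0 hdec s' t' _ (inv_mem hu)))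
        (inv_mem hu')
  · refine { cycs := ?_, cyct := ?_, inv := Or.inl ?_ }
    · refine ⟨tt hdec 1 g, tt_mem1 hφ hdec g, httB _ _, fun x hx hxB => ?_⟩
      obtain ⟨u, hu, t, rfl⟩ := hinv1 x hx hxB
      obtain ⟨k, hk⟩ := Subgroup.mem_zpowers_iff.1 (hg t)
      refine ⟨-k, ?_⟩
      rw [tt_zpow1, mul_assoc, tt_mul, zpow_neg, hk, mul_inv_cancel, mul_one, tt_one, mul_one]
      exact hu
    · refine ⟨tt hdec g 1, tt_mem2 hφ hdec g, httB _ _, fun x hx hxB => ?_⟩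
      obtain ⟨u, hu, t, rfl⟩ := hinv2 x hx hxB
      obtain ⟨k, hk⟩ := Subgroup.mem_zpowers_iff.1 (hg t)
      refine ⟨-k, ?_⟩
      rw [tt_zpow2, mul_assoc, tt_mul, zpow_neg, hk, mul_inv_cancel, mul_one, tt_one, mul_one]
      exact hu
    · intro x hx hxB hxN
      obtain ⟨s, t, rfl⟩ := hH x hxB hxN
      have h1 := bound1 hφ hdec hx (one_mem _) (one_mul _).symm
      subst h1
      rw [m1_tt, tt_mul, inv_mul_cancel, one_mul, tt_one]
  · refine ⟨tt hdec (γ ^ 2) γ, ⟨httB _ _, httN _ _⟩, hcen1 _ _ ?_, hfpf2 _ _ ?_⟩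
    · rw [chi_tc_24, inv_mul_cancel]
    · rw [chi_tc_25]
      intro h
      exact hγ1 (eq_one_of_exp hφ h)
  · refine ⟨tt hdec γ⁻¹ 1, tt_mem2 hφ hdec _, ⟨httB _ _, httN _ _⟩, hfpf1 _ _ ?_⟩
    rw [chi_tc_24, inv_inv, one_pow, mul_one]
    exact hγ1
  · refine ⟨tt hdec 1 γ⁻¹, tt_mem1 hφ hdec _, ⟨httB _ _, httN _ _⟩, hfpf2 _ _ ?_⟩
    rw [chi_tc_25]
    simpa using hγ1

/-- **The facts on `²F₄(q)`, `q ≥ 8`.** -/
theorem hasKPairSep (hm : 1 ≤ m) (hK : Fintype.card K = 2 ^ (2 * m + 1)) :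
    HasKPairSep 2 ↥(twistedF4 K (2 ^ m)) := by
  obtain ⟨Q, UE, s, t, h1, h2, h3, -, -⟩ := exists_all hm hK
  exact ⟨Q, UE, s, t, h1, h2, Or.inl h3⟩

/-- **The facts on `²F₄(q)`, `q ≥ 8`, literal form.** -/
theorem hasKPairSep_iso {G : Type*} [Group G] (h : Iso2F4 G) : HasKPairSep 2 G := by
  obtain ⟨K, _, _, m, hm, hK, ⟨f⟩⟩ := h
  exact hasKPairSep_congr f.symm (hasKPairSep hm hK)

end Final

end Cfsg.Agent.ParSys.Fam.TwoFFour

end

section


/-!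
# The rank one tori of the Chevalley groups: cyclic, inverted by the reflection
-/

set_option autoImplicit false
set_option linter.unusedSectionVars false

namespace Cfsg.Agent.ParSys.Fam.ChevTor

open CoxeterSystem Cfsg.Agent.ChevalleyStructure.CoxeterGeom Cfsg.Agent.Tits.Roots Cfsg.Agent.Tits.Core
  Cfsg.Agent.Tits.RootComb Cfsg.Agent.Nodes.Comb Cfsg.Agent.Nodes.Reps Cfsg.Agent.Nodes.BNOf
  Cfsg.Agent.Nodes.RGDChev Cfsg.Agent.KFacts.RgdChevCoord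
open Cfsg.Lie Cfsg.Agent.ChevalleyStructure Cfsg.Agent.ChevalleyStructure.Elts
  Cfsg.Agent.ChevalleyStructure.NPerm Cfsg.Agent.ChevalleyStructure.CoxeterGeomTypes
open scoped commutatorElement

universe u

section SL2

variable {K : Type u} [Field K]

/-- diagonal -/
def sd (t : Kˣ) : Matrix.SpecialLinearGroup (Fin 2) K :=
  ⟨!![(t : K), 0; 0, ((t⁻¹ : Kˣ) : K)], by simp [Matrix.det_fin_two]⟩

/-- monomial -/
def sw (t : Kˣ) : Matrix.SpecialLinearGroup (Fin 2) K :=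
  ⟨!![0, (t : K); -((t⁻¹ : Kˣ) : K), 0], by simp [Matrix.det_fin_two]⟩

theorem sw_eq (t : Kˣ) : sx (t : K) * (sy (-((t : K))⁻¹) * sx (t : K)) = sw t := by
  apply Subtype.ext
  show (!![1, (t : K); 0, 1] * (!![1, 0; -((t : K))⁻¹, 1] * !![1, (t : K); 0, 1]) : Matrix (Fin 2) (Fin 2) K) =
    !![0, (t : K); -((t⁻¹ : Kˣ) : K), 0]
  rw [Units.val_inv_eq_inv_val]
  ext i j
  fin_cases i <;> fin_cases j <;> simp

theorem sd_eq (t : Kˣ) : sw t * sw (-1) = sd t := by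
  apply Subtype.ext
  show (!![0, (t : K); -((t⁻¹ : Kˣ) : K), 0] * !![0, ((-1 : Kˣ) : K); -(((-1)⁻¹ : Kˣ) : K), 0] :
    Matrix (Fin 2) (Fin 2) K) = !![(t : K), 0; 0, ((t⁻¹ : Kˣ) : K)]
  ext i j
  fin_cases i <;> fin_cases j <;> simp

theorem sd_mul (s t : Kˣ) : sd s * sd t = sd (s * t) := by
  apply Subtype.ext
  show (!![(s : K), 0; 0, ((s⁻¹ : Kˣ) : K)] * !![(t : K), 0; 0, ((t⁻¹ : Kˣ) : K)] : Matrix (Fin 2) (Fin 2) K) =
    !![((s * t : Kˣ) : K), 0; 0, (((s * t)⁻¹ : Kˣ) : K)]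
  ext i j
  fin_cases i <;> fin_cases j <;> simp [mul_comm]

theorem sd_one : sd (1 : Kˣ) = 1 := by
  apply Subtype.ext
  show (!![((1 : Kˣ) : K), 0; 0, ((1⁻¹ : Kˣ) : K)] : Matrix (Fin 2) (Fin 2) K) = 1
  rw [Matrix.one_fin_two]
  simp

theorem sw_sd (t : Kˣ) : sw 1 * sd t = sd t⁻¹ * sw 1 := by
  apply Subtype.ext
  show (!![0, ((1 : Kˣ) : K); -((1⁻¹ : Kˣ) : K), 0] * !![(t : K), 0; 0, ((t⁻¹ : Kˣ) : K)] : Matrix (Fin 2) (Fin 2) K) =
    !![((t⁻¹ : Kˣ) : K), 0; 0, ((t⁻¹⁻¹ : Kˣ) : K)] * !![0, ((1 : Kˣ) : K); -((1⁻¹ : Kˣ) : K), 0]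
  ext i j
  fin_cases i <;> fin_cases j <;> simp

end SL2

variable {D : ChevalleyDatum} {l : ℕ} {M : CoxeterMatrix (Fin l)} (hp : IsType D l M) {K : Type u} [Field K]

theorem exists_hom (j : Fin l) : ∃ φ : Matrix.SpecialLinearGroup (Fin 2) K →* GL D.Idx K,
    (∀ t : Kˣ, φ (sd t) = hG hp.inList (D.simple j) (t : K)) ∧ φ (sw 1) = nn hp K j := by
  have hj := simple_lt hp.inList (lt_rank hp j)
  obtain ⟨φ, hφ, hxy⟩ := Cfsg.Agent.S1030.result (F := K) D hp.inList (D.simple j) hj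
  have hsx : ∀ u : K, φ (sx u) = xG hp.inList (D.simple j) u := fun u =>
    Units.ext (by rw [(hxy (sx u) u).1 rfl, coe_xG])
  have hsy : ∀ u : K, φ (sy u) = xG hp.inList (D.neg (D.simple j)) u := fun u =>
    Units.ext (by rw [(hxy (sy u) u).2 rfl, coe_xG])
  have hsw : ∀ t : Kˣ, φ (sw t) = nG hp.inList (D.simple j) (t : K) := by
    intro t
    rw [← sw_eq, map_mul, map_mul, hsx, hsy, nG_def]
    try rw [mul_assoc]
  refine ⟨φ, fun t => ?_, ?_⟩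
  · rw [← sd_eq, map_mul, hsw, hsw, hG_def]
    rfl
  · rw [hsw]
    rfl

theorem hc_mul (j : Fin l) {a b : K} (ha : a ≠ 0) (hb : b ≠ 0) : hc hp j (a * b) = hc hp j a * hc hp j b := by
  obtain ⟨φ, h1, -⟩ := exists_hom (K := K) hp j
  apply Subtype.ext
  have e1 := h1 (Units.mk0 a ha)
  have e2 := h1 (Units.mk0 b hb)
  have e3 := h1 (Units.mk0 a ha * Units.mk0 b hb)
  rw [← sd_mul, map_mul, e1, e2, Units.val_mul, Units.val_mk0, Units.val_mk0] at e3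
  exact e3.symm

theorem hc_one (j : Fin l) : hc hp j (1 : K) = 1 := by
  obtain ⟨φ, h1, -⟩ := exists_hom (K := K) hp j
  apply Subtype.ext
  have e1 := h1 1
  rw [sd_one, map_one, Units.val_one] at e1
  exact e1.symm

theorem hc_zpow (j : Fin l) {a : K} (ha : a ≠ 0) (k : ℤ) : hc hp j (a ^ k) = hc hp j a ^ k := by
  have key : ∀ m : ℕ, hc hp j (a ^ m) = hc hp j a ^ m := by
    intro m
    induction m with
    | zero => rw [pow_zero, pow_zero, hc_one]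
    | succ m ih => rw [pow_succ, pow_succ, hc_mul hp j (pow_ne_zero m ha) ha, ih]
  have hinv : ∀ b : K, b ≠ 0 → hc hp j b⁻¹ = (hc hp j b)⁻¹ := by
    intro b hb
    rw [eq_inv_iff_mul_eq_one, ← hc_mul hp j (inv_ne_zero hb) hb, inv_mul_cancel₀ hb, hc_one]
  rcases k with m | m
  · rw [Int.ofNat_eq_natCast, zpow_natCast, zpow_natCast, key]
  · rw [zpow_negSucc, zpow_negSucc, hinv _ (pow_ne_zero _ ha), key]

/-- the reflection inverts the rank one torus -/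
theorem nc_hc (j : Fin l) {a : K} (ha : a ≠ 0) : nc hp K j * hc hp j a * (nc hp K j)⁻¹ * hc hp j a = 1 := by
  obtain ⟨φ, h1, h2⟩ := exists_hom (K := K) hp j
  apply Subtype.ext
  have e1 := h1 (Units.mk0 a ha)
  rw [Units.val_mk0] at e1
  show nn hp K j * hG hp.inList (D.simple j) a * (nn hp K j)⁻¹ * hG hp.inList (D.simple j) a = 1
  rw [← e1, ← h2, ← map_inv, ← map_mul, ← map_mul, ← map_mul, sw_sd, mul_inv_cancel_right, sd_mul, inv_mul_cancel,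
    sd_one, map_one]

variable {W : Type*} [Group W] (cs : CoxeterSystem M W)

include hp cs in
/-- **The rank one torus is cyclic.** -/
theorem cyc [Finite K] (p : ℕ) [Fact p.Prime] [CharP K p] (j : Fin l) :
    ∃ c ∈ TT D K ⊓ (XX D l K (sr j) ⊔ XX D l K (-sr j)), ∀ x ∈ TT D K ⊓ (XX D l K (sr j) ⊔ XX D l K (-sr j)),
      ∃ k : ℤ, x * c ^ k = 1 := by
  obtain ⟨g, hg⟩ := IsCyclic.exists_generator (α := Kˣ)
  refine ⟨hc hp j (g : K), (coroot_mem hp cs p j _).2 ⟨_, g.ne_zero, rfl⟩, fun x hx => ?_⟩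
  obtain ⟨a, ha, rfl⟩ := (coroot_mem hp cs p j x).1 hx
  obtain ⟨k, hk⟩ := hg (Units.mk0 a ha)
  refine ⟨-k, ?_⟩
  have e1 : (g : K) ^ k = a := by
    have := congrArg Units.val hk
    rwa [Units.val_zpow_eq_zpow_val, Units.val_mk0] at this
  rw [← hc_zpow hp j g.ne_zero, ← hc_mul hp j ha (zpow_ne_zero _ g.ne_zero), zpow_neg, e1, mul_inv_cancel₀ ha, hc_one]

include hp cs in
/-- **The rank one torus is inverted by the reflection.** -/
theorem inv [Finite K] (p : ℕ) [Fact p.Prime] [CharP K p] (j : Fin l) :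
    ∀ x ∈ TT D K ⊓ (XX D l K (sr j) ⊔ XX D l K (-sr j)), nc hp K j * x * (nc hp K j)⁻¹ * x = 1 := by
  intro x hx
  obtain ⟨a, ha, rfl⟩ := (coroot_mem hp cs p j x).1 hx
  exact nc_hc hp j ha

include hp in
/-- **The torus is abelian.** -/
theorem TT_comm (x : ↥(D.group K)) (hx : x ∈ TT D K) (y : ↥(D.group K)) (hy : y ∈ TT D K) : x * y = y * x := by
  obtain ⟨χ, hχ⟩ := HMatDiagAll.mem_torus.1 (HMatDiagAll.diagonalSubgroup_le_torus hp.inList hx)
  obtain ⟨ψ, hψ⟩ := HMatDiagAll.mem_torus.1 (HMatDiagAll.diagonalSubgroup_le_torus hp.inList hy)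
  rw [Subgroup.coe_subtype] at hχ hψ
  apply Subtype.ext
  apply Units.ext
  rw [Subgroup.coe_mul, Subgroup.coe_mul, Units.val_mul, Units.val_mul, hχ, hψ, Matrix.diagonal_mul_diagonal,
    Matrix.diagonal_mul_diagonal]
  congr 1
  funext i
  exact mul_comm _ _

end Cfsg.Agent.ParSys.Fam.ChevTor

end

section


/-!
# THEOREM PAR: the facts on `G₂(q)`, `q ≥ 4` even
-/

set_option autoImplicit false
set_option linter.unusedSectionVars false

namespace Cfsg.Agent.ParSys.Fam.G2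

open CoxeterSystem Cfsg.Agent.ChevalleyStructure.CoxeterGeom Cfsg.Agent.Tits.Roots Cfsg.Agent.Tits.Core
  Cfsg.Agent.Tits.RootComb Cfsg.Agent.Nodes.Comb Cfsg.Agent.Nodes.Reps Cfsg.Agent.Nodes.BNOf
  Cfsg.Agent.Nodes.BNOf.RGD Cfsg.Agent.Nodes.RGDChev Cfsg.Agent.KFacts.RgdChevCoord
open Cfsg.Lie Cfsg.Agent.ChevalleyStructure Cfsg.Agent.ChevalleyStructure.Elts
open scoped commutatorElement

universe u

variable {K : Type u} [Field K]

theorem hp : IsType chevG2 2 CoxeterMatrix.G₂ := by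
  simp only [IsType, typeList, List.mem_cons, true_or]

/-- the Coxeter system -/
abbrev cs : CoxeterSystem CoxeterMatrix.G₂ CoxeterMatrix.G₂.Group := CoxeterMatrix.G₂.toCoxeterSystem

/-- the root elements -/
def xe (K : Type u) [Field K] (r : ℕ) (a : K) : ↥(chevG2.group K) :=
  ⟨xG hp.inList r a, xG_mem_group hp.inList r a⟩

theorem xe_mul (r : ℕ) (a b : K) : xe K r a * xe K r b = xe K r (a + b) :=
  Subtype.ext (xG_add hp.inList r a b)

theorem xe_zero (r : ℕ) : xe K r 0 = 1 := Subtype.ext (xG_zero hp.inList r)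

theorem xe_inv (r : ℕ) (a : K) : (xe K r a)⁻¹ = xe K r (-a) := by
  rw [inv_eq_iff_mul_eq_one, xe_mul, add_neg_cancel, xe_zero]

theorem mem_XX {r : ℕ} (hr : r < chevG2.nroots) {g : ↥(chevG2.group K)} :
    g ∈ XX chevG2 2 K (vec chevG2 2 r) ↔ ∃ a, g = xe K r a := by
  rw [Subgroup.mem_subgroupOf, XV_vec hp K hr, mem_rootSubgroup_iff hp.inList]
  constructor
  · rintro ⟨a, ha⟩
    exact ⟨a, Subtype.ext ha⟩
  · rintro ⟨a, rfl⟩
    exact ⟨a, rfl⟩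

theorem comm_xe {r s : ℕ} (hr : r < chevG2.nroots) (hs : s < chevG2.nroots) (hrs : s ≠ r) (hneg : s ≠ chevG2.neg r)
    (t u : K) : ((⁅(xe K s u)⁻¹, (xe K r t)⁻¹⁆ : ↥(chevG2.group K)) : GL chevG2.Idx K) =
      wordG hp.inList (chevG2.commWord K r s t u) := by
  rw [← comm_xG hp hr hs hrs hneg]
  rfl

theorem nroots : chevG2.nroots = 12 := by decide +kernel

theorem ct1 : chevG2.commTerms 6 10 = [(11,1,1,1)] := by decide +kernel
theorem ct2 : chevG2.commTerms 9 7 = [(10,-3,1,1)] := by decide +kernel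
theorem ct3 : chevG2.commTerms 7 6 = [(8,-1,1,1),(9,1,2,1),(10,1,3,1),(11,1,3,2)] := by decide +kernel

theorem negs : chevG2.neg 6 = 5 ∧ chevG2.neg 7 = 4 ∧ chevG2.neg 9 = 2 := by decide +kernel

theorem simples : chevG2.simple 0 = 7 ∧ chevG2.simple 1 = 6 := by decide +kernel

/-- the positive roots -/
theorem pos_cases : ∀ r < 12, (∀ i : Fin 2, 0 ≤ vec chevG2 2 r i) →
    r = 6 ∨ r = 7 ∨ r = 8 ∨ r = 9 ∨ r = 10 ∨ r = 11 := by decide +kernel

theorem pos_vec : ∀ r, 6 ≤ r → r < 12 → ∀ i : Fin 2, 0 ≤ vec chevG2 2 r i := by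
  intro r h1 h2
  interval_cases r <;> decide +kernel

theorem vec_sr0 : vec chevG2 2 7 = sr (0 : Fin 2) := by
  have := vec_simple hp (0 : Fin 2)
  rwa [show chevG2.simple ((0 : Fin 2) : ℕ) = 7 from simples.1] at this

theorem vec_sr1 : vec chevG2 2 6 = sr (1 : Fin 2) := by
  have := vec_simple hp (1 : Fin 2)
  rwa [show chevG2.simple ((1 : Fin 2) : ℕ) = 6 from simples.2] at this

/-- the unipotent group -/
abbrev UU (K : Type u) [Field K] : Subgroup ↥(chevG2.group K) := Sup (XX chevG2 2 K) (Pos cs hp.isCartan)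

theorem xe_mem_UU {r : ℕ} (h1 : 6 ≤ r) (h2 : r < 12) (a : K) : xe K r a ∈ UU K :=
  le_Sup (S := Pos cs hp.isCartan) ⟨isRoot_vec hp cs (by rw [nroots]; exact h2), pos_vec r h1 h2⟩
    ((mem_XX (by rw [nroots]; exact h2)).2 ⟨a, rfl⟩)

theorem comm_mem' {r s : ℕ} (hr : 6 ≤ r) (hs : 6 ≤ s) (hr' : r < 12) (hs' : s < 12) (t u : K) :
    ⁅(xe K s u)⁻¹, (xe K r t)⁻¹⁆ ∈ ⁅UU K, UU K⁆ :=
  Subgroup.commutator_mem_commutator (inv_mem (xe_mem_UU hs hs' u)) (inv_mem (xe_mem_UU hr hr' t))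

theorem c11 (a : K) : xe K 11 a ∈ ⁅UU K, UU K⁆ := by
  have h1 := comm_mem' (K := K) (r := 6) (s := 10) (by norm_num) (by norm_num) (by norm_num) (by norm_num) (-1) a
  have h2 : ⁅(xe K 10 a)⁻¹, (xe K 6 (-1))⁻¹⁆ = xe K 11 a := by
    apply Subtype.ext
    rw [comm_xe (by rw [nroots]; norm_num) (by rw [nroots]; norm_num) (by norm_num) (by rw [negs.1]; norm_num)]
    simp only [ChevalleyDatum.commWord, ct1, List.map_cons, List.map_nil, wordG_cons, wordG_nil, mul_one]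
    congr 1
    norm_num
  rwa [h2] at h1

theorem c10 [CharP K 2] (a : K) : xe K 10 a ∈ ⁅UU K, UU K⁆ := by
  have h1 := comm_mem' (K := K) (r := 9) (s := 7) (by norm_num) (by norm_num) (by norm_num) (by norm_num) 1 a
  have h2 : ⁅(xe K 7 a)⁻¹, (xe K 9 1)⁻¹⁆ = xe K 10 a := by
    apply Subtype.ext
    rw [comm_xe (by rw [nroots]; norm_num) (by rw [nroots]; norm_num) (by norm_num) (by rw [negs.2.2]; norm_num)]
    simp only [ChevalleyDatum.commWord, ct2, List.map_cons, List.map_nil, wordG_cons, wordG_nil, mul_one]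
    congr 1
    have e2 : (2 : K) = 0 := by exact_mod_cast CharP.cast_eq_zero K 2
    push_cast
    linear_combination a * e2
  rwa [h2] at h1

theorem c89 [CharP K 2] (t u : K) : xe K 8 (t * u) * xe K 9 (t * t * u) ∈ ⁅UU K, UU K⁆ := by
  have h1 := comm_mem' (K := K) (r := 7) (s := 6) (by norm_num) (by norm_num) (by norm_num) (by norm_num) t u
  have h2 : ⁅(xe K 6 u)⁻¹, (xe K 7 t)⁻¹⁆ =
      xe K 8 (t * u) * xe K 9 (t * t * u) * (xe K 10 ((-t) ^ 3 * u) * xe K 11 ((-t) ^ 3 * u ^ 2)) := by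
    apply Subtype.ext
    rw [comm_xe (by rw [nroots]; norm_num) (by rw [nroots]; norm_num) (by norm_num) (by rw [negs.2.1]; norm_num)]
    simp only [ChevalleyDatum.commWord, ct3, List.map_cons, List.map_nil, wordG_cons, wordG_nil, mul_one]
    have e1 : ((-1 : ℤ) : K) * (-t) ^ 1 * u ^ 1 = t * u := by push_cast; ring
    have e2 : ((1 : ℤ) : K) * (-t) ^ 2 * u ^ 1 = t * t * u := by push_cast; ring
    have e3 : ((1 : ℤ) : K) * (-t) ^ 3 * u ^ 1 = (-t) ^ 3 * u := by push_cast; ring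
    have e4 : ((1 : ℤ) : K) * (-t) ^ 3 * u ^ 2 = (-t) ^ 3 * u ^ 2 := by push_cast; ring
    rw [e1, e2, e3, e4, ← mul_assoc]
    rfl
  rw [h2] at h1
  have h3 := mul_mem h1 (inv_mem (mul_mem (c10 ((-t) ^ 3 * u)) (c11 ((-t) ^ 3 * u ^ 2))))
  rwa [mul_inv_cancel_right] at h3

variable [CharP K 2] (hK : ∃ t : K, t ≠ 0 ∧ t ≠ 1)

include hK in
theorem c9 (a : K) : xe K 9 a ∈ ⁅UU K, UU K⁆ := by
  obtain ⟨t, h0, h1⟩ := hK
  have h2 := c89 (K := K) 1 (a / (t - 1))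
  have h3 := c89 (K := K) t (a / (t - 1) / t)
  have ht : t - 1 ≠ 0 := sub_ne_zero.2 h1
  have e1 : t * (a / (t - 1) / t) = 1 * (a / (t - 1)) := by field_simp
  have e2 : t * t * (a / (t - 1) / t) = t * (a / (t - 1)) := by field_simp
  rw [e1, e2] at h3
  have h4 := mul_mem (inv_mem h2) h3
  have e3 : (xe K 8 (1 * (a / (t - 1))) * xe K 9 (1 * 1 * (a / (t - 1))))⁻¹ *
      (xe K 8 (1 * (a / (t - 1))) * xe K 9 (t * (a / (t - 1)))) = xe K 9 a := by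
    rw [mul_inv_rev, mul_assoc, inv_mul_cancel_left, xe_inv, xe_mul]
    congr 1
    field_simp
    ring
  rwa [e3] at h4

include hK in
theorem c8 (a : K) : xe K 8 a ∈ ⁅UU K, UU K⁆ := by
  have h1 := c89 (K := K) 1 a
  have h2 := mul_mem h1 (inv_mem (c9 hK (1 * 1 * a)))
  rwa [mul_inv_cancel_right, one_mul] at h2

include hK in
theorem hX (z : Fin 2 → ℤ) (hz : IsRoot cs hp.isCartan z) (h0 : 0 ≤ z) (hz0 : z ≠ sr 0) (hz1 : z ≠ sr 1) :
    XX chevG2 2 K z ≤ ⁅UU K, UU K⁆ := by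
  obtain ⟨r, hr, rfl⟩ := (isRoot_iff hp cs z).1 hz
  intro g hg
  obtain ⟨a, rfl⟩ := (mem_XX hr).1 hg
  rw [nroots] at hr
  rcases pos_cases r hr h0 with rfl | rfl | rfl | rfl | rfl | rfl
  · exact absurd vec_sr1 hz1
  · exact absurd vec_sr0 hz0
  · exact c8 hK a
  · exact c9 hK a
  · exact c10 a
  · exact c11 a

/-! ### The torus -/

theorem xc_eq {r : ℕ} (hr : r < chevG2.nroots) (a : K) : xc hp (vec chevG2 2 r) a = xe K r a :=
  Subtype.ext (coe_xc hp hr a)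

theorem xe_inj {r : ℕ} (hr : r < chevG2.nroots) {a b : K} (h : xe K r a = xe K r b) : a = b := by
  rw [← xc_eq hr, ← xc_eq hr] at h
  exact xc_inj hp hr h

theorem hc_xe (j : Fin 2) {a : K} (ha : a ≠ 0) {r : ℕ} (hr : r < chevG2.nroots) (b : K) :
    hc hp j a * xe K r b * (hc hp j a)⁻¹ = xe K r (a ^ chevG2.cartan j r * b) := by
  have h1 := (act hp hr (hc_mem (K := K) hp j ha)).2 b
  rwa [ch_hc hp j ha hr, xc_eq hr, xc_eq hr] at h1

theorem carts : chevG2.cartan 0 7 = 2 ∧ chevG2.cartan 1 7 = -1 ∧ chevG2.cartan 0 6 = -3 ∧ chevG2.cartan 1 6 = 2 := by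
  decide +kernel

include hK in
theorem tor0 : ∃ a ∈ TT chevG2 K, ∀ x ∈ XX chevG2 2 K (sr 0), a * x * a⁻¹ = x → x = 1 := by
  obtain ⟨t, h0, h1⟩ := hK
  refine ⟨hc hp 1 t, hc_mem hp 1 h0, fun x hx e => ?_⟩
  have hr : 7 < chevG2.nroots := by rw [nroots]; norm_num
  rw [← vec_sr0] at hx
  obtain ⟨b, rfl⟩ := (mem_XX hr).1 hx
  rw [hc_xe 1 h0 hr] at e
  have e1 := xe_inj hr e
  rw [show chevG2.cartan ((1 : Fin 2) : ℕ) 7 = -1 from carts.2.1, zpow_neg_one] at e1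
  have e2 : b = 0 := by
    by_contra hb
    have h3 : t⁻¹ = 1 := mul_right_cancel₀ hb (by rw [e1, one_mul])
    exact h1 (inv_eq_one.1 h3)
  rw [e2, xe_zero]

include hK in
theorem tor01 : ∃ a ∈ TT chevG2 K, (∀ x ∈ XX chevG2 2 K (sr 0), a * x * a⁻¹ = x) ∧
    ∀ x ∈ XX chevG2 2 K (sr 1), a * x * a⁻¹ = x → x = 1 := by
  obtain ⟨t, h0, h1⟩ := hK
  have h0' : t ^ 2 ≠ 0 := pow_ne_zero 2 h0
  have hr : 7 < chevG2.nroots := by rw [nroots]; norm_num
  have hs : 6 < chevG2.nroots := by rw [nroots]; norm_num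
  refine ⟨hc hp 0 t * hc hp 1 (t ^ 2), mul_mem (hc_mem hp 0 h0) (hc_mem hp 1 h0'), fun x hx => ?_, fun x hx e => ?_⟩
  · rw [← vec_sr0] at hx
    obtain ⟨b, rfl⟩ := (mem_XX hr).1 hx
    have e1 : hc hp 0 t * hc hp 1 (t ^ 2) * xe K 7 b * (hc hp 0 t * hc hp 1 (t ^ 2))⁻¹ =
        hc hp 0 t * (hc hp 1 (t ^ 2) * xe K 7 b * (hc hp 1 (t ^ 2))⁻¹) * (hc hp 0 t)⁻¹ := by group
    rw [e1, hc_xe 1 h0' hr, hc_xe 0 h0 hr, show chevG2.cartan ((1 : Fin 2) : ℕ) 7 = -1 from carts.2.1,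
      show chevG2.cartan ((0 : Fin 2) : ℕ) 7 = 2 from carts.1]
    congr 1
    rw [zpow_neg_one, ← mul_assoc, show (2 : ℤ) = ((2 : ℕ) : ℤ) from rfl, zpow_natCast, mul_inv_cancel₀ h0', one_mul]
  · rw [← vec_sr1] at hx
    obtain ⟨b, rfl⟩ := (mem_XX hs).1 hx
    have e1 : hc hp 0 t * hc hp 1 (t ^ 2) * xe K 6 b * (hc hp 0 t * hc hp 1 (t ^ 2))⁻¹ =
        hc hp 0 t * (hc hp 1 (t ^ 2) * xe K 6 b * (hc hp 1 (t ^ 2))⁻¹) * (hc hp 0 t)⁻¹ := by group
    rw [e1, hc_xe 1 h0' hs, hc_xe 0 h0 hs, show chevG2.cartan ((1 : Fin 2) : ℕ) 6 = 2 from carts.2.2.2,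
      show chevG2.cartan ((0 : Fin 2) : ℕ) 6 = -3 from carts.2.2.1] at e
    have e2 := xe_inj hs e
    have e3 : t ^ (-3 : ℤ) * ((t ^ 2) ^ (2 : ℤ) * b) = t * b := by
      rw [show (2 : ℤ) = ((2 : ℕ) : ℤ) from rfl, zpow_natCast, zpow_neg, show (3 : ℤ) = ((3 : ℕ) : ℤ) from rfl,
        zpow_natCast]
      field_simp
    rw [e3] at e2
    have e4 : b = 0 := by
      by_contra hb
      exact h1 (mul_right_cancel₀ hb (by rw [e2, one_mul]))
    rw [e4, xe_zero]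

end Cfsg.Agent.ParSys.Fam.G2

namespace Cfsg.Agent.ParSys.Fam

open Cfsg.Lie Cfsg.Agent.Nodes.RGDChev Cfsg.Agent.Nodes.FreeTorus Cfsg.Agent.KFacts.RgdChevCoord
open Cfsg.Agent.Tits.Roots Cfsg.Agent.Tits.Core Cfsg.Agent.Tits.RootComb

/-- an element other than `0`, `1` -/
theorem exists_ne_zero_one {K : Type*} [Field K] (h4 : 4 ≤ Nat.card K) : ∃ t : K, t ≠ 0 ∧ t ≠ 1 := by
  by_contra hcon
  push Not at hcon
  have h1 : Nat.card K ≤ Nat.card Bool := by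
    classical
    refine Nat.card_le_card_of_injective (fun t : K => decide (t = 0)) ?_
    intro a b hab
    simp only [decide_eq_decide] at hab
    by_cases ha : a = 0
    · rw [ha, hab.1 ha]
    · rw [hcon a ha, hcon b fun hb => ha (hab.2 hb)]
  rw [Nat.card_eq_fintype_card (α := Bool), Fintype.card_bool] at h1
  omega

/-- **`G₂(q)`, `q ≥ 4` even.** -/
theorem hasKPairSep_G2 {K : Type*} [Field K] [Finite K] [CharP K 2] (h4 : 4 ≤ Nat.card K) :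
    HasKPairSep 2 ↥(chevG2.group K) := by
  have : Fact (Nat.Prime 2) := ⟨Nat.prime_two⟩
  have hK := exists_ne_zero_one h4
  have : IsSimpleGroup ↥(chevG2.group K) := (Cfsg.Agent.S1055.result hK).1
  have := finite_W G2.hp G2.cs
  refine hasKPairSep_of_rgd (rgd (K := K) G2.hp G2.cs 2) (G1_eq_top G2.hp G2.cs) (i := 0) (j := 1) (by decide)
    (fun k => ?_) ?_ (fun z hz h0 hz0 hz1 => G2.hX hK z hz h0 hz0 hz1) (ChevTor.TT_comm G2.hp)
    (isCyclic_of_exists (ChevTor.cyc G2.hp G2.cs 2 0)) (isCyclic_of_exists (ChevTor.cyc G2.hp G2.cs 2 1))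
    (Or.inl fun t ht ht' => ChevTor.inv G2.hp G2.cs 2 0 t ⟨ht, ht'⟩) (G2.tor0 hK) (G2.tor01 hK)
  · fin_cases k
    · exact Or.inl rfl
    · exact Or.inr rfl
  · decide

end Cfsg.Agent.ParSys.Fam

end

section


/-!
# Nodes parametrised by `SL₂(F)`: the rank one torus is cyclic and inverted by the reflection
-/

set_option autoImplicit false
set_option linter.unusedSectionVars false

namespace Cfsg.Agent.ParSys.Fam.SLNode

open CoxeterSystem Cfsg.Agent.ChevalleyStructure.CoxeterGeom Cfsg.Agent.Tits.Roots Cfsg.Agent.Tits.Core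
  Cfsg.Agent.Tits.RootComb Cfsg.Agent.Nodes.Comb Cfsg.Agent.Nodes.Reps Cfsg.Agent.Nodes.BNOf
  Cfsg.Agent.Nodes.BNOf.RGD Cfsg.Agent.Nodes.FreeTorus Cfsg.Agent.Nodes.OppDec
  Cfsg.Agent.KFacts.RgdDiag
open Cfsg.Agent.ChevalleyStructure.SL2Hom (up lo mem_closure_SL2)
open Cfsg.Agent.Nodes.RGDFoldSL (wS hS coe_wS coe_hS lo_eq)

section SL2

variable {F : Type*} [Field F]

theorem hS_mul {s t : F} (hs : s ≠ 0) (ht : t ≠ 0) : hS s * hS t = hS (s * t) := by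
  apply Subtype.ext
  rw [Matrix.SpecialLinearGroup.coe_mul, coe_hS hs, coe_hS ht, coe_hS (mul_ne_zero hs ht)]
  ext i j
  fin_cases i <;> fin_cases j <;> simp [Matrix.mul_apply, Fin.sum_univ_two, mul_comm]

theorem hS_one : hS (1 : F) = 1 := by
  apply Subtype.ext
  rw [coe_hS one_ne_zero, inv_one, Matrix.SpecialLinearGroup.coe_one, Matrix.one_fin_two]

theorem hS_inv {t : F} (ht : t ≠ 0) : (hS t)⁻¹ = hS t⁻¹ := by
  rw [inv_eq_iff_mul_eq_one, hS_mul ht (inv_ne_zero ht), mul_inv_cancel₀ ht, hS_one]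

theorem wS_hS {t : F} (ht : t ≠ 0) : wS 1 * hS t = (hS t)⁻¹ * wS 1 := by
  rw [hS_inv ht]
  apply Subtype.ext
  rw [Matrix.SpecialLinearGroup.coe_mul, Matrix.SpecialLinearGroup.coe_mul, coe_hS ht, coe_hS (inv_ne_zero ht),
    coe_wS one_ne_zero]
  ext i j
  fin_cases i <;> fin_cases j <;> simp [Matrix.mul_apply, Fin.sum_univ_two]

theorem hS_up {t : F} (ht : t ≠ 0) (a : F) : hS t * up a * (hS t)⁻¹ = up (t * t * a) := by
  rw [mul_inv_eq_iff_eq_mul]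
  apply Subtype.ext
  rw [Matrix.SpecialLinearGroup.coe_mul, Matrix.SpecialLinearGroup.coe_mul, coe_hS ht]
  show _ * (!![1, a; 0, 1] : Matrix (Fin 2) (Fin 2) F) = !![1, t * t * a; 0, 1] * _
  ext i j
  fin_cases i <;> fin_cases j <;> simp [Matrix.mul_apply, Fin.sum_univ_two]
  field_simp

theorem up_mul (a b : F) : up a * up b = up (a + b) := by
  apply Subtype.ext
  show (!![1, a; 0, 1] : Matrix (Fin 2) (Fin 2) F) * !![1, b; 0, 1] = !![1, a + b; 0, 1]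
  ext i j
  fin_cases i <;> fin_cases j <;> simp [Matrix.mul_apply, Fin.sum_univ_two, add_comm]

theorem up_zero : up (0 : F) = 1 := by
  apply Subtype.ext
  show (!![1, 0; 0, 1] : Matrix (Fin 2) (Fin 2) F) = 1
  rw [Matrix.one_fin_two]

theorem hS_zpow {t : F} (ht : t ≠ 0) (k : ℤ) : hS (t ^ k) = hS t ^ k := by
  have key : ∀ m : ℕ, hS (t ^ m) = hS t ^ m := by
    intro m
    induction m with
    | zero => rw [pow_zero, pow_zero, hS_one]
    | succ m ih => rw [pow_succ, pow_succ, ← hS_mul (pow_ne_zero m ht) ht, ih]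
  rcases k with m | m
  · rw [Int.ofNat_eq_natCast, zpow_natCast, zpow_natCast, key]
  · rw [zpow_negSucc, zpow_negSucc, ← hS_inv (pow_ne_zero _ ht), key]

theorem dec_zero {A : Matrix.SpecialLinearGroup (Fin 2) F} (hA : A.1 1 0 = 0) :
    A.1 0 0 ≠ 0 ∧ A = hS (A.1 0 0) * up (A.1 0 1 / A.1 0 0) := by
  have hd := A.2
  rw [Matrix.det_fin_two, hA, mul_zero, sub_zero] at hd
  have h0 : A.1 0 0 ≠ 0 := left_ne_zero_of_mul_eq_one hd
  have h1 : A.1 1 1 = (A.1 0 0)⁻¹ := eq_inv_of_mul_eq_one_right hd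
  refine ⟨h0, ?_⟩
  apply Subtype.ext
  rw [Matrix.SpecialLinearGroup.coe_mul, coe_hS h0]
  show A.1 = !![A.1 0 0, 0; 0, (A.1 0 0)⁻¹] * !![1, A.1 0 1 / A.1 0 0; 0, 1]
  ext i j
  fin_cases i <;> fin_cases j
  · simp [Matrix.mul_apply, Fin.sum_univ_two]
  · simp only [Matrix.mul_apply, Fin.sum_univ_two]
    simp
    field_simp
  · simpa [Matrix.mul_apply, Fin.sum_univ_two] using hA
  · simpa [Matrix.mul_apply, Fin.sum_univ_two] using h1

theorem dec_ne {A : Matrix.SpecialLinearGroup (Fin 2) F} (hA : A.1 1 0 ≠ 0) :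
    A = up (A.1 0 0 / A.1 1 0) * (hS (-(A.1 1 0)⁻¹) * wS 1) * up (A.1 1 1 / A.1 1 0) := by
  have hd := A.2
  rw [Matrix.det_fin_two] at hd
  have hg : -(A.1 1 0)⁻¹ ≠ 0 := neg_ne_zero.2 (inv_ne_zero hA)
  have e1 : (hS (-(A.1 1 0)⁻¹) * wS 1 : Matrix.SpecialLinearGroup (Fin 2) F).1 = !![0, -(A.1 1 0)⁻¹; A.1 1 0, 0] := by
    rw [Matrix.SpecialLinearGroup.coe_mul, coe_hS hg, coe_wS one_ne_zero]
    ext i j
    fin_cases i <;> fin_cases j <;> simp [Matrix.mul_apply, Fin.sum_univ_two]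
  apply Subtype.ext
  rw [Matrix.SpecialLinearGroup.coe_mul, Matrix.SpecialLinearGroup.coe_mul, e1]
  show A.1 = !![1, A.1 0 0 / A.1 1 0; 0, 1] * !![0, -(A.1 1 0)⁻¹; A.1 1 0, 0] * !![1, A.1 1 1 / A.1 1 0; 0, 1]
  have hb : A.1 0 1 = (A.1 0 0 * A.1 1 1 - 1) / A.1 1 0 := by
    rw [eq_div_iff hA]
    linear_combination (-1 : F) * hd
  ext i j
  fin_cases i <;> fin_cases j
  · simp only [Matrix.mul_apply, Fin.sum_univ_two]
    simp
    field_simp
  · simp only [Matrix.mul_apply, Fin.sum_univ_two]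
    simp
    rw [hb]
    field_simp
    ring
  · simp [Matrix.mul_apply, Fin.sum_univ_two]
  · simp only [Matrix.mul_apply, Fin.sum_univ_two]
    simp
    field_simp

end SL2

variable {I W Y : Type*} [Fintype I] [DecidableEq I] [Group W] [Group Y] {M : CoxeterMatrix I}
variable {cs : CoxeterSystem M W} {A : I → I → ℤ} {h : IsCartan M A} {p : ℕ} {T : Subgroup Y} {n : I → Y}
  {X : (I → ℤ) → Subgroup Y} [Finite W]

variable (R : RGD cs h p T n X) (i : I) {F : Type*} [Field F] (Φ : Matrix.SpecialLinearGroup (Fin 2) F →* Y)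
  (hup : ∀ g, g ∈ X (sr i) ↔ ∃ a, g = Φ (up a)) (hw : Φ (wS 1) = n i) (hT : ∀ d : F, d ≠ 0 → Φ (hS d) ∈ T)

include R hup hw

theorem LL_le : LL X (sr i) ≤ Φ.range := by
  have h1 : X (sr i) ≤ Φ.range := by
    intro g hg
    obtain ⟨a, rfl⟩ := (hup g).1 hg
    exact ⟨_, rfl⟩
  refine sup_le h1 ?_
  have h2 := R.conj i _ (isRoot_sr cs h i)
  rw [rep_simple_sr] at h2
  rw [← h2]
  intro g hg
  rw [mem_cj] at hg
  have h3 : g = n i * ((n i)⁻¹ * g * n i) * (n i)⁻¹ := by group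
  rw [h3, ← hw] at *
  exact mul_mem (mul_mem ⟨_, rfl⟩ (h1 hg)) (inv_mem ⟨_, rfl⟩)

include hT

/-- **The rank one torus.** -/
theorem exists_hS {t : Y} (ht : t ∈ T) (ht' : t ∈ LL X (sr i)) : ∃ d : F, d ≠ 0 ∧ t = Φ (hS d) := by
  obtain ⟨A, rfl⟩ := LL_le R i Φ hup hw ht'
  have hX : ∀ b : F, Φ (up b) ∈ X (sr i) := fun b => (hup _).2 ⟨b, rfl⟩
  by_cases h0 : A.1 1 0 = 0
  · obtain ⟨ha, e⟩ := dec_zero h0
    refine ⟨_, ha, ?_⟩
    have h3 : Φ (up (A.1 0 1 / A.1 0 0)) ∈ T := by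
      have h4 : Φ (up (A.1 0 1 / A.1 0 0)) = (Φ (hS (A.1 0 0)))⁻¹ * Φ A := by
        conv_rhs => rw [e, map_mul]
        rw [← e, inv_mul_cancel_left]
      rw [h4]
      exact mul_mem (inv_mem (hT _ ha)) ht
    have h5 : Φ (up (A.1 0 1 / A.1 0 0)) = 1 := by
      have h6 := X_inf_T R (isRoot_sr cs h i)
      rw [Subgroup.eq_bot_iff_forall] at h6
      exact h6 _ ⟨hX _, h3⟩
    conv_lhs => rw [e, map_mul, h5, mul_one]
  · exfalso
    have e := dec_ne h0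
    have hXB : ∀ b : F, Φ (up b) ∈ RGD.B cs h T X := fun b => RGD.X_le_B (isRoot_sr cs h i) (sr_nonneg i) (hX b)
    have hg : -(A.1 1 0)⁻¹ ≠ 0 := neg_ne_zero.2 (inv_ne_zero h0)
    have h3 : n i ∈ RGD.B cs h T X := by
      have h4 : n i = (Φ (hS (-(A.1 1 0)⁻¹)))⁻¹ *
          ((Φ (up (A.1 0 0 / A.1 1 0)))⁻¹ * Φ A * (Φ (up (A.1 1 1 / A.1 1 0)))⁻¹) := by
        conv_rhs => rw [e, map_mul, map_mul, map_mul, hw]
        rw [← e]
        group
      rw [h4]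
      exact mul_mem (inv_mem (RGD.T_le_B (hT _ hg)))
        (mul_mem (mul_mem (inv_mem (hXB _)) (RGD.T_le_B ht)) (inv_mem (hXB _)))
    exact simple_ne_one i (R.eq_one_of_mem_B (rp_simple cs R.nsys i) h3)

/-- **The rank one torus is cyclic.** -/
theorem isCyclic [Finite F] : IsCyclic ↥(T ⊓ LL X (sr i)) := by
  obtain ⟨g, hg⟩ := IsCyclic.exists_generator (α := Fˣ)
  have hX : X (sr i) ≤ LL X (sr i) := le_sup_left
  have h1 : Φ.range ≤ LL X (sr i) := by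
    have hup' : ∀ a : F, Φ (up a) ∈ LL X (sr i) := fun a => hX ((hup _).2 ⟨a, rfl⟩)
    have hlo' : ∀ a : F, Φ (lo a) ∈ LL X (sr i) := by
      intro a
      rw [lo_eq, map_mul, map_mul, map_inv, hw]
      have h2 := R.conj i _ (isRoot_sr cs h i)
      rw [rep_simple_sr] at h2
      have h3 : X (-sr i) ≤ LL X (sr i) := le_sup_right
      apply h3
      rw [← h2]
      exact conj_mem_cj.2 ((hup _).2 ⟨-a, rfl⟩)
    rintro _ ⟨A, rfl⟩
    have h2 : Subgroup.closure (Set.range (up (F := F)) ∪ Set.range (lo (F := F))) ≤ (LL X (sr i)).comap Φ := by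
      rw [Subgroup.closure_le]
      rintro _ (⟨a, rfl⟩ | ⟨a, rfl⟩)
      · exact hup' a
      · exact hlo' a
    exact h2 (mem_closure_SL2 A)
  refine ⟨⟨⟨Φ (hS (g : F)), hT _ g.ne_zero, h1 ⟨_, rfl⟩⟩, ?_⟩⟩
  rintro ⟨t, ht, ht'⟩
  obtain ⟨d, hd, rfl⟩ := exists_hS R i Φ hup hw hT ht ht'
  obtain ⟨k, hk⟩ := hg (Units.mk0 d hd)
  refine ⟨k, Subtype.ext ?_⟩
  have e1 : (g : F) ^ k = d := by
    have := congrArg Units.val hk
    rwa [Units.val_zpow_eq_zpow_val, Units.val_mk0] at this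
  show (Φ (hS (g : F))) ^ k = Φ (hS d)
  rw [← map_zpow, ← hS_zpow g.ne_zero, e1]

/-- **The rank one torus is inverted by the reflection.** -/
theorem inverted : ∀ t ∈ T, t ∈ LL X (sr i) → n i * t * (n i)⁻¹ * t = 1 := by
  intro t ht ht'
  obtain ⟨d, hd, rfl⟩ := exists_hS R i Φ hup hw hT ht ht'
  rw [← hw, ← map_inv, ← map_mul, ← map_mul, ← map_mul, wS_hS hd, mul_inv_cancel_right, inv_mul_cancel, map_one]

end Cfsg.Agent.ParSys.Fam.SLNode

end
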